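import Cfsg.Agent.S0001
set_option linter.all false

/-!
# Glauberman's lemma on coprime action

`A` and `K` are subgroups of a finite group `G`, `A` normalises `K`, the orders are coprime and one of
them is solvable.

* `exists_conj_of_le_sup`: a subgroup `B` of `A ⊔ K` with the order of `A` is conjugate to `A` by an
  element of `K` (Schur-Zassenhaus in a form with subgroups).
* `exists_smul_fixed`: if `G` acts on `X` and `A` preserves the `K`-orbit of `x`, then `A` fixes a point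
  of this orbit.
* `exists_centralizer_smul`: `C_K(A)` permutes transitively the `A`-fixed points of a `K`-orbit.
-/

set_option autoImplicit false
open scoped Pointwise

namespace Cfsg.Agent.Solvable.Glauberman

/-- Elements of `A ⊔ K` are products `k * a` when `A` normalises `K`. -/
theorem exists_mul_of_mem_sup {G : Type*} [Group G] (A K : Subgroup G)
    (hAK : A ≤ Subgroup.normalizer (K : Set G)) {g : G} (hg : g ∈ A ⊔ K) :
    ∃ k ∈ K, ∃ a ∈ A, g = k * a := by
  have hsup : A ⊔ K = K ⊔ A := sup_comm _ _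
  rw [hsup, ← SetLike.mem_coe, Subgroup.sup_eq_closure_mul] at hg
  let S : Subgroup G :=
    { carrier := {g | ∃ k ∈ K, ∃ a ∈ A, g = k * a}
      one_mem' := ⟨1, K.one_mem, 1, A.one_mem, by simp⟩
      mul_mem' := by
        rintro _ _ ⟨k, hk, a, ha, rfl⟩ ⟨k', hk', a', ha', rfl⟩
        have h1 : a * k' * a⁻¹ ∈ K := (Subgroup.mem_normalizer_iff.mp (hAK ha) k').mp hk'
        exact ⟨k * (a * k' * a⁻¹), K.mul_mem hk h1, a * a', A.mul_mem ha ha', by group⟩
      inv_mem' := by
        rintro _ ⟨k, hk, a, ha, rfl⟩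
        have h1 : a⁻¹ * k⁻¹ * a⁻¹⁻¹ ∈ K :=
          (Subgroup.mem_normalizer_iff.mp (hAK (A.inv_mem ha)) k⁻¹).mp (K.inv_mem hk)
        exact ⟨a⁻¹ * k⁻¹ * a⁻¹⁻¹, h1, a⁻¹, A.inv_mem ha, by group⟩ }
  have hle : Subgroup.closure ((K : Set G) * (A : Set G)) ≤ S := by
    rw [Subgroup.closure_le]
    rintro _ ⟨k, hk, a, ha, rfl⟩
    exact ⟨k, hk, a, ha, rfl⟩
  exact hle hg

/-- Schur-Zassenhaus conjugacy, in a form with subgroups of a fixed group: a subgroup `B` of `A ⊔ K` whose order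
is that of `A` is the conjugate of `A` by an element of `K`. -/
theorem exists_conj_of_le_sup {G : Type*} [Group G] [Finite G] (A K : Subgroup G)
    (hAK : A ≤ Subgroup.normalizer (K : Set G)) (hcop : (Nat.card A).Coprime (Nat.card K))
    (hsolv : Group.IsSolvable A ∨ Group.IsSolvable K) (B : Subgroup G) (hB : B ≤ A ⊔ K)
    (hcard : Nat.card B = Nat.card A) :
    ∃ k ∈ K, MulAut.conj k • A = B := by
  set S : Subgroup G := A ⊔ K with hS
  have hKS : K ≤ S := le_sup_right
  have hAS : A ≤ S := le_sup_left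
  let K' : Subgroup S := K.subgroupOf S
  let A' : Subgroup S := A.subgroupOf S
  let B' : Subgroup S := B.subgroupOf S
  have hSK : S ≤ Subgroup.normalizer (K : Set G) := sup_le hAK Subgroup.le_normalizer
  have hK'n : K'.Normal := Subgroup.normal_subgroupOf_of_le_normalizer hSK
  have eK : Nat.card K' = Nat.card K := Nat.card_congr (Subgroup.subgroupOfEquivOfLe hKS).toEquiv
  have eA : Nat.card A' = Nat.card A := Nat.card_congr (Subgroup.subgroupOfEquivOfLe hAS).toEquiv
  have eB : Nat.card B' = Nat.card A :=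
    (Nat.card_congr (Subgroup.subgroupOfEquivOfLe hB).toEquiv).trans hcard
  have hdisj : Disjoint K' A' := by
    apply Subgroup.disjoint_of_coprime_natCard
    rw [eK, eA]; exact hcop.symm
  have hKA : Subgroup.IsComplement' K' A' := by
    apply Subgroup.isComplement'_of_disjoint_and_mul_eq_univ hdisj
    rw [Set.eq_univ_iff_forall]
    rintro ⟨g, hg⟩
    obtain ⟨k, hk, a, ha, rfl⟩ := exists_mul_of_mem_sup A K hAK hg
    exact ⟨⟨k, hKS hk⟩, hk, ⟨a, hAS ha⟩, ha, rfl⟩
  have hcardS : Nat.card K' * Nat.card A' = Nat.card S := hKA.card_mul_card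
  have hKB : Subgroup.IsComplement' K' B' := by
    apply Subgroup.isComplement'_of_coprime
    · rw [eB, ← eA, hcardS]
    · rw [eK, eB]; exact hcop.symm
  have hidx : K'.index = Nat.card A := by
    rw [hKA.symm.index_eq_card, eA]
  have hsolv' : Group.IsSolvable K' ∨ Group.IsSolvable (S ⧸ K') := by
    rcases hsolv with h | h
    · right
      have := h
      have e1 : A' ≃* A := Subgroup.subgroupOfEquivOfLe hAS
      have e2 : S ⧸ K' ≃* A' := hKA.symm.QuotientMulEquiv
      exact Group.isSolvable_of_surjective (f := (e2.trans e1).symm.toMonoidHom) (e2.trans e1).symm.surjective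
    · left
      have := h
      exact Group.isSolvable_of_surjective (f := (Subgroup.subgroupOfEquivOfLe hKS).symm.toMonoidHom)
        (Subgroup.subgroupOfEquivOfLe hKS).symm.surjective
  obtain ⟨g, hg⟩ := Cfsg.Agent.S0001.result K' (by rw [eK, hidx]; exact hcop.symm) hsolv' A' B' hKA hKB
  obtain ⟨k, hk, a, ha, hgka⟩ := exists_mul_of_mem_sup A K hAK g.2
  refine ⟨k, hk, ?_⟩
  ext x
  rw [Subgroup.mem_smul_pointwise_iff_exists]
  constructor
  · rintro ⟨b, hb, rfl⟩
    have hb2 : a⁻¹ * b * a ∈ A := A.mul_mem (A.mul_mem (A.inv_mem ha) hb) ha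
    have h1 : MulAut.conj g • (⟨a⁻¹ * b * a, hAS hb2⟩ : S) ∈ MulAut.conj g • A' :=
      Subgroup.smul_mem_pointwise_smul _ _ _ hb2
    rw [hg] at h1
    have h2 : ((MulAut.conj g • (⟨a⁻¹ * b * a, hAS hb2⟩ : S) : S) : G) ∈ B := h1
    have h3 : ((MulAut.conj g • (⟨a⁻¹ * b * a, hAS hb2⟩ : S) : S) : G) = MulAut.conj k • b := by
      simp only [MulAut.smul_def, MulAut.conj_apply, Subgroup.coe_mul, Subgroup.coe_inv, hgka]
      group
    rwa [h3] at h2
  · intro hx
    have h1 : (⟨x, hB hx⟩ : S) ∈ MulAut.conj g • A' := by rw [hg]; exact hx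
    rw [Subgroup.mem_smul_pointwise_iff_exists] at h1
    obtain ⟨b, hb, hbx⟩ := h1
    have hb' : (b : G) ∈ A := hb
    refine ⟨a * b * a⁻¹, A.mul_mem (A.mul_mem ha hb') (A.inv_mem ha), ?_⟩
    have h3 : ((MulAut.conj g • b : S) : G) = x := by rw [hbx]
    rw [← h3]
    simp only [MulAut.smul_def, MulAut.conj_apply, Subgroup.coe_mul, Subgroup.coe_inv, hgka]
    group

/-- An element of `K` normalising `A` centralises `A` when `A` normalises `K` and `A`, `K` have coprime orders. -/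
theorem mem_centralizer_of_normalizes {G : Type*} [Group G] (A K : Subgroup G)
    (hAK : A ≤ Subgroup.normalizer (K : Set G)) (hdisj : Disjoint A K) {c : G} (hc : c ∈ K)
    (h : ∀ a ∈ A, c * a * c⁻¹ ∈ A) : c ∈ Subgroup.centralizer (A : Set G) := by
  rw [Subgroup.mem_centralizer_iff]
  intro a ha
  have h1 : c * a * c⁻¹ * a⁻¹ ∈ A := A.mul_mem (h a ha) (A.inv_mem ha)
  have h2 : c * a * c⁻¹ * a⁻¹ ∈ K := by
    have h3 : a * c⁻¹ * a⁻¹ ∈ K := (Subgroup.mem_normalizer_iff.mp (hAK ha) c⁻¹).mp (K.inv_mem hc)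
    have h4 : c * a * c⁻¹ * a⁻¹ = c * (a * c⁻¹ * a⁻¹) := by group
    rw [h4]; exact K.mul_mem hc h3
  have h5 : c * a * c⁻¹ * a⁻¹ = 1 := by
    have := hdisj.le_bot (Subgroup.mem_inf.mpr ⟨h1, h2⟩)
    simpa using this
  have h6 : c * a = a * c := by
    have h7 : c * a = (c * a * c⁻¹ * a⁻¹) * (a * c) := by group
    rw [h7, h5, one_mul]
  exact h6.symm

/-- Glauberman's lemma, first part: if `A` preserves the `K`-orbit of `x`, it fixes a point of it. -/
theorem exists_smul_fixed {G : Type*} [Group G] [Finite G] (A K : Subgroup G)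
    (hAK : A ≤ Subgroup.normalizer (K : Set G)) (hcop : (Nat.card A).Coprime (Nat.card K))
    (hsolv : Group.IsSolvable A ∨ Group.IsSolvable K) {X : Type*} [MulAction G X] (x : X)
    (hx : ∀ a ∈ A, ∃ k ∈ K, a • x = k • x) :
    ∃ k ∈ K, ∀ a ∈ A, a • k • x = k • x := by
  -- the stabilizer of `x` in `A ⊔ K`
  set S : Subgroup G := (A ⊔ K) ⊓ MulAction.stabilizer G x with hS
  have hSK : S ≤ Subgroup.normalizer (K : Set G) :=
    inf_le_left.trans (sup_le hAK Subgroup.le_normalizer)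
  let K' : Subgroup S := K.subgroupOf S
  have hK'n : K'.Normal := Subgroup.normal_subgroupOf_of_le_normalizer hSK
  have hdisj : Disjoint A K := Subgroup.disjoint_of_coprime_natCard hcop
  -- a transversal: for each `a : A` an element `k a ∈ K` with `k⁻¹ a ∈ S`
  choose! f hfK hf using hx
  have hfS : ∀ a ∈ A, (f a)⁻¹ * a ∈ S := by
    intro a ha
    refine Subgroup.mem_inf.mpr ⟨?_, ?_⟩
    · exact Subgroup.mul_mem _ (Subgroup.mem_sup_right (K.inv_mem (hfK a ha))) (Subgroup.mem_sup_left ha)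
    · rw [MulAction.mem_stabilizer_iff, mul_smul, hf a ha, inv_smul_smul]
  -- the index of `K'` in `S` is the order of `A`
  have hidx : K'.index = Nat.card A := by
    rw [Subgroup.index]
    symm
    refine Nat.card_congr (Equiv.ofBijective
      (fun a : A => (QuotientGroup.mk (⟨(f a)⁻¹ * a, hfS a a.2⟩ : S) : S ⧸ K')) ⟨?_, ?_⟩)
    · intro a b hab
      have h1 : (⟨(f a)⁻¹ * a, hfS a a.2⟩ : S)⁻¹ * ⟨(f b)⁻¹ * b, hfS b b.2⟩ ∈ K' :=
        QuotientGroup.eq.mp hab
      have h2 : ((f a)⁻¹ * (a : G))⁻¹ * ((f b)⁻¹ * (b : G)) ∈ K := h1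
      have h3 : (a : G)⁻¹ * b ∈ K := by
        have h4 : (a : G)⁻¹ * (f a * (f b)⁻¹) * (a : G)⁻¹⁻¹ ∈ K :=
          (Subgroup.mem_normalizer_iff.mp (hAK (A.inv_mem a.2)) _).mp
            (K.mul_mem (hfK a a.2) (K.inv_mem (hfK b b.2)))
        have h5 : (a : G)⁻¹ * b = ((a : G)⁻¹ * (f a * (f b)⁻¹) * (a : G)⁻¹⁻¹)⁻¹ *
            (((f a)⁻¹ * (a : G))⁻¹ * ((f b)⁻¹ * (b : G))) := by group
        rw [h5]
        exact K.mul_mem (K.inv_mem h4) h2
      have h6 : (a : G)⁻¹ * b = 1 := by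
        have := hdisj.le_bot (Subgroup.mem_inf.mpr ⟨A.mul_mem (A.inv_mem a.2) b.2, h3⟩)
        simpa using this
      exact Subtype.ext (inv_mul_eq_one.mp h6)
    · intro q
      induction q using QuotientGroup.induction_on with
      | H s =>
        obtain ⟨k, hk, a, ha, hska⟩ := exists_mul_of_mem_sup A K hAK (Subgroup.mem_inf.mp s.2).1
        refine ⟨⟨a, ha⟩, ?_⟩
        refine QuotientGroup.eq.mpr ?_
        change ((f a)⁻¹ * a)⁻¹ * (s : G) ∈ K
        have h4 : a⁻¹ * (f a * k) * a⁻¹⁻¹ ∈ K :=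
          (Subgroup.mem_normalizer_iff.mp (hAK (A.inv_mem ha)) _).mp (K.mul_mem (hfK a ha) hk)
        have h5 : ((f a)⁻¹ * a)⁻¹ * (s : G) = a⁻¹ * (f a * k) * a⁻¹⁻¹ := by rw [hska]; group
        rw [h5]; exact h4
  have hK'card : (Nat.card K').Coprime (Nat.card A) := by
    have h1 : Nat.card K' ∣ Nat.card K := by
      have h2 : Nat.card K' = Nat.card (K ⊓ S : Subgroup G) := by
        refine Nat.card_congr ?_
        exact ((Subgroup.subgroupOf_map_subtype K S ▸
          (K.subgroupOf S).equivMapOfInjective S.subtype S.subtype_injective)).toEquiv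
      rw [h2]
      exact Subgroup.card_dvd_of_le inf_le_left
    exact Nat.Coprime.coprime_dvd_left h1 hcop.symm
  obtain ⟨B, hB⟩ := Subgroup.exists_right_complement'_of_coprime (N := K') (by rw [hidx]; exact hK'card)
  have hBcard : Nat.card (B.map S.subtype) = Nat.card A := by
    rw [Nat.card_congr (B.equivMapOfInjective S.subtype S.subtype_injective).symm.toEquiv,
      ← hidx, hB.symm.index_eq_card]
  have hBle : B.map S.subtype ≤ S := Subgroup.map_subtype_le B
  obtain ⟨k, hk, hkA⟩ := exists_conj_of_le_sup A K hAK hcop hsolv (B.map S.subtype)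
    (hBle.trans inf_le_left) hBcard
  refine ⟨k⁻¹, K.inv_mem hk, ?_⟩
  intro a ha
  have h1 : k * a * k⁻¹ ∈ B.map S.subtype := by
    rw [← hkA]
    exact Subgroup.smul_mem_pointwise_smul _ _ _ ha
  have h2 : k * a * k⁻¹ ∈ MulAction.stabilizer G x := (Subgroup.mem_inf.mp (hBle h1)).2
  rw [MulAction.mem_stabilizer_iff] at h2
  have h3 : a • k⁻¹ • x = k⁻¹ • (k * a * k⁻¹) • x := by
    simp only [← mul_smul]; congr 1; group
  rw [h3, h2]

/-- Glauberman's lemma, second part: `C_K(A)` is transitive on the `A`-fixed points of a `K`-orbit. -/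
theorem exists_centralizer_smul {G : Type*} [Group G] [Finite G] (A K : Subgroup G)
    (hAK : A ≤ Subgroup.normalizer (K : Set G)) (hcop : (Nat.card A).Coprime (Nat.card K))
    (hsolv : Group.IsSolvable A ∨ Group.IsSolvable K) {X : Type*} [MulAction G X] (x y : X)
    (hx : ∀ a ∈ A, a • x = x) (hy : ∀ a ∈ A, a • y = y) {k : G} (hk : k ∈ K) (hkx : k • x = y) :
    ∃ c ∈ K, c ∈ Subgroup.centralizer (A : Set G) ∧ c • x = y := by
  set L : Subgroup G := K ⊓ MulAction.stabilizer G y with hL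
  have hLK : L ≤ K := inf_le_left
  have hAL : A ≤ Subgroup.normalizer (L : Set G) := by
    intro a ha
    have key : ∀ a ∈ A, ∀ h ∈ L, a * h * a⁻¹ ∈ L := by
      intro a ha h hh
      refine Subgroup.mem_inf.mpr ⟨?_, ?_⟩
      · exact (Subgroup.mem_normalizer_iff.mp (hAK ha) h).mp (Subgroup.mem_inf.mp hh).1
      · have h1 := (Subgroup.mem_inf.mp hh).2
        rw [MulAction.mem_stabilizer_iff] at h1 ⊢
        rw [mul_smul, mul_smul, hy a⁻¹ (A.inv_mem ha), h1, hy a ha]
    rw [Subgroup.mem_normalizer_iff]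
    intro h
    constructor
    · exact key a ha h
    · intro hh
      have h2 := key a⁻¹ (A.inv_mem ha) _ hh
      have h3 : a⁻¹ * (a * h * a⁻¹) * a⁻¹⁻¹ = h := by group
      rwa [h3] at h2
  have hcopL : (Nat.card A).Coprime (Nat.card L) :=
    Nat.Coprime.coprime_dvd_right (Subgroup.card_dvd_of_le hLK) hcop
  have hsolvL : Group.IsSolvable A ∨ Group.IsSolvable L := by
    rcases hsolv with h | h
    · exact Or.inl h
    · right
      have := h
      exact Group.isSolvable_of_isSolvable_injective (f := Subgroup.inclusion hLK) (Subgroup.inclusion_injective hLK)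
  have hBle : MulAut.conj k • A ≤ A ⊔ L := by
    intro g hg
    rw [Subgroup.mem_smul_pointwise_iff_exists] at hg
    obtain ⟨a, ha, rfl⟩ := hg
    change k * a * k⁻¹ ∈ A ⊔ L
    have h1 : k * (a * k⁻¹ * a⁻¹) ∈ L := by
      refine Subgroup.mem_inf.mpr ⟨?_, ?_⟩
      · exact K.mul_mem hk ((Subgroup.mem_normalizer_iff.mp (hAK ha) k⁻¹).mp (K.inv_mem hk))
      · rw [MulAction.mem_stabilizer_iff]
        have h2 : k⁻¹ • y = x := by rw [← hkx, inv_smul_smul]
        rw [mul_smul, mul_smul, mul_smul, hy a⁻¹ (A.inv_mem ha), h2, hx a ha, hkx]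
    have h3 : k * a * k⁻¹ = (k * (a * k⁻¹ * a⁻¹)) * a := by group
    rw [h3]
    exact Subgroup.mul_mem _ (Subgroup.mem_sup_right h1) (Subgroup.mem_sup_left ha)
  have hBcard : Nat.card (MulAut.conj k • A : Subgroup G) = Nat.card A :=
    Nat.card_congr (Subgroup.equivSMul (MulAut.conj k) A).symm.toEquiv
  obtain ⟨l, hl, hlA⟩ := exists_conj_of_le_sup A L hAL hcopL hsolvL (MulAut.conj k • A) hBle hBcard
  have hlK : l ∈ K := hLK hl
  have hdisj : Disjoint A K := Subgroup.disjoint_of_coprime_natCard hcop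
  refine ⟨l⁻¹ * k, K.mul_mem (K.inv_mem hlK) hk, ?_, ?_⟩
  · apply mem_centralizer_of_normalizes A K hAK hdisj (K.mul_mem (K.inv_mem hlK) hk)
    intro a ha
    have h1 : k * a * k⁻¹ ∈ MulAut.conj l • A := by
      rw [hlA]
      exact Subgroup.smul_mem_pointwise_smul a (MulAut.conj k) A ha
    rw [Subgroup.mem_smul_pointwise_iff_exists] at h1
    obtain ⟨b, hb, hb2⟩ := h1
    have hb3 : l * b * l⁻¹ = k * a * k⁻¹ := hb2
    have h2 : l⁻¹ * k * a * (l⁻¹ * k)⁻¹ = b := by
      have h3 : l⁻¹ * k * a * (l⁻¹ * k)⁻¹ = l⁻¹ * (k * a * k⁻¹) * l := by group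
      rw [h3, ← hb3]; group
    rw [h2]; exact hb
  · have h1 : l ∈ MulAction.stabilizer G y := (Subgroup.mem_inf.mp hl).2
    have h2 : l⁻¹ ∈ MulAction.stabilizer G y := Subgroup.inv_mem _ h1
    rw [MulAction.mem_stabilizer_iff] at h2
    rw [mul_smul, hkx, h2]

end Cfsg.Agent.Solvable.Glauberman
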