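import Mathlib
set_option linter.all false

/-!
# Commutative groups acting without fixed points are cyclic

* `isCyclic_of_fpf_add` : a finite commutative group `A` acting on a nontrivial finite additive
  commutative group `V` such that nonidentity elements have no nonzero fixed point is cyclic.
* `isCyclic_of_fpf_comm` : the same for `φ : A →* MulAut V`, `V` commutative.
* `isCyclic_of_fpf_nilpotent` : the same for `V` nilpotent.
-/

set_option autoImplicit false
set_option linter.style.haveILetI false

namespace Cfsg.Agent.Solvable.FpfCyclic

/-- A finite commutative group `A` acting on a nontrivial finite additive commutative group `V` such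
that nonidentity elements have no nonzero fixed point is cyclic. -/
theorem isCyclic_of_fpf_add {A V : Type*} [Group A] [Finite A] (hA : ∀ a b : A, a * b = b * a)
    [AddCommGroup V] [Finite V] [Nontrivial V] (φ : A →* AddMonoid.End V)
    (h : ∀ a : A, a ≠ 1 → ∀ v : V, φ a v = v → v = 0) : IsCyclic A := by
  classical
  let S : Set (AddMonoid.End V) := Set.range φ
  have hS : ∀ x ∈ S, ∀ y ∈ S, x * y = y * x := by
    rintro _ ⟨a, rfl⟩ _ ⟨b, rfl⟩
    rw [← map_mul, ← map_mul, hA]
  haveI : IsMulCommutative (Subring.closure S) := Subring.isMulCommutative_closure hS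
  letI : CommRing (Subring.closure S) :=
    { (inferInstance : Ring (Subring.closure S)) with
      mul_comm := fun x y => mul_comm' x y }
  haveI : Finite (AddMonoid.End V) := DFunLike.finite _
  haveI : Finite (Subring.closure S) := inferInstance
  haveI : Nontrivial (AddMonoid.End V) := by
    refine ⟨1, 0, ?_⟩
    intro h10
    obtain ⟨v, hv⟩ := exists_ne (0 : V)
    apply hv
    have := DFunLike.congr_fun h10 v
    simpa using this
  haveI : Nontrivial (Subring.closure S) := inferInstance
  obtain ⟨m, hm⟩ := Ideal.exists_maximal (Subring.closure S)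
  let ψ : A →* Subring.closure S :=
    { toFun := fun a => ⟨φ a, Subring.subset_closure ⟨a, rfl⟩⟩
      map_one' := by ext; simp
      map_mul' := by intro a b; ext; simp }
  haveI : IsDomain (Subring.closure S ⧸ m) := Ideal.Quotient.isDomain m
  refine isCyclic_of_injective_ringHom ((Ideal.Quotient.mk m).toMonoidHom.comp ψ) ?_
  rw [injective_iff_map_eq_one]
  intro a ha
  by_contra hne
  have h1 : (ψ a - 1) ∈ m := by
    rw [← Ideal.Quotient.eq_zero_iff_mem, map_sub, map_one]
    have : (Ideal.Quotient.mk m) (ψ a) = 1 := ha
    rw [this, sub_self]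
  have h2 : IsUnit (ψ a - 1) := by
    rw [isUnit_iff_mem_nonZeroDivisors_of_finite, mem_nonZeroDivisors_iff_right]
    intro x hx
    rw [mul_comm] at hx
    ext v
    have h3 := congrArg (fun z : Subring.closure S => (z : AddMonoid.End V) v) hx
    have h4 : φ a ((x : AddMonoid.End V) v) - (x : AddMonoid.End V) v = 0 := h3
    exact h a hne _ (sub_eq_zero.mp h4)
  exact hm.ne_top (Ideal.eq_top_of_isUnit_mem m h1 h2)

/-- A finite commutative group `A` acting on a nontrivial finite commutative group `V` such
that nonidentity elements have no nonidentity fixed point is cyclic. -/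
theorem isCyclic_of_fpf_comm {A V : Type*} [Group A] [Finite A] (hA : ∀ a b : A, a * b = b * a)
    [Group V] (hV : ∀ x y : V, x * y = y * x) [Finite V] [Nontrivial V] (φ : A →* MulAut V)
    (h : ∀ a : A, a ≠ 1 → ∀ v : V, φ a v = v → v = 1) : IsCyclic A := by
  letI : CommGroup V := { ‹Group V› with mul_comm := hV }
  let φ' : A →* AddMonoid.End (Additive V) :=
    { toFun := fun a => MonoidHom.toAdditive (φ a).toMonoidHom
      map_one' := by rw [map_one]; rfl
      map_mul' := by intro a b; rw [map_mul]; rfl }
  refine isCyclic_of_fpf_add hA φ' ?_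
  intro a ha v hv
  exact h a ha (Additive.toMul v) hv

/-- A finite commutative group `A` acting on a nontrivial finite nilpotent group `W` such
that nonidentity elements have no nonidentity fixed point is cyclic. -/
theorem isCyclic_of_fpf_nilpotent {A W : Type*} [Group A] [Finite A]
    (hA : ∀ a b : A, a * b = b * a)
    [Group W] [Finite W] [Nontrivial W] [Group.IsNilpotent W] (φ : A →* MulAut W)
    (h : ∀ a : A, a ≠ 1 → ∀ v : W, φ a v = v → v = 1) : IsCyclic A := by
  haveI : Nontrivial (Subgroup.center W) :=
    (Subgroup.nontrivial_iff_ne_bot _).mpr (Group.IsNilpotent.center_ne_bot W)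
  let φ' : A →* MulAut (Subgroup.center W) :=
    { toFun := fun a => Subgroup.centerCongr (φ a)
      map_one' := by rw [map_one]; rfl
      map_mul' := by intro a b; rw [map_mul]; rfl }
  refine isCyclic_of_fpf_comm hA
    (fun x y => Subtype.ext (Subgroup.mem_center_iff.mp y.2 (x : W))) φ' ?_
  intro a ha v hv
  have h1 : φ a (v : W) = (v : W) := congrArg Subtype.val hv
  exact Subtype.ext (h a ha v h1)

end Cfsg.Agent.Solvable.FpfCyclic
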