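import Mathlib
import Cfsg.Agent.Lib.SolvableNormalP
set_option linter.all false

/-!
Fixed-point-free automorphisms of prime order: restriction, quotients, invariant Sylow subgroups,
coprime action on an abelian invariant subgroup, and nilpotency in the solvable case.
-/

set_option autoImplicit false

namespace Cfsg.Agent.Solvable.FpfPrime

universe u

/-- `φ` is an endomorphism fixing only the identity, with `φ^p = 1` for the prime `p`. -/
structure FPF (p : ℕ) {G : Type u} [Group G] (φ : G →* G) : Prop where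
  prime : p.Prime
  fpf : ∀ g, φ g = g → g = 1
  iter : ∀ g, (φ^[p]) g = g

section Basic

variable {G : Type u} [Group G] {p : ℕ} {φ : G →* G}

/-- Restriction of an endomorphism to an invariant subgroup. -/
def restr (φ : G →* G) (H : Subgroup G) (h : ∀ x ∈ H, φ x ∈ H) : H →* H :=
  (φ.comp H.subtype).codRestrict H (fun x => h x x.2)

theorem restr_coe (φ : G →* G) (H : Subgroup G) (h : ∀ x ∈ H, φ x ∈ H) (x : H) :
    (restr φ H h x : G) = φ x := rfl

theorem restr_iter (φ : G →* G) (H : Subgroup G) (h : ∀ x ∈ H, φ x ∈ H) (n : ℕ) (x : H) :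
    (((restr φ H h)^[n] x : H) : G) = φ^[n] x := by
  induction n with
  | zero => rfl
  | succ n ih => rw [Function.iterate_succ_apply', Function.iterate_succ_apply', restr_coe, ih]

theorem FPF.restr (hφ : FPF p φ) (H : Subgroup G) (h : ∀ x ∈ H, φ x ∈ H) :
    FPF p (restr φ H h) where
  prime := hφ.prime
  fpf g hg := Subtype.ext (hφ.fpf g (congrArg Subtype.val hg))
  iter g := Subtype.ext (by rw [restr_iter, hφ.iter])

theorem FPF.iter_mul (hφ : FPF p φ) (m : ℕ) (g : G) : (φ^[p * m]) g = g := by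
  induction m with
  | zero => simp
  | succ m ih => rw [Nat.mul_succ, Function.iterate_add_apply, hφ.iter, ih]

theorem iterate_mem {H : Subgroup G} (h : ∀ x ∈ H, φ x ∈ H) (n : ℕ) {x : G} (hx : x ∈ H) :
    (φ^[n]) x ∈ H := by
  induction n with
  | zero => exact hx
  | succ n ih => rw [Function.iterate_succ_apply']; exact h _ ih

theorem FPF.injective (hφ : FPF p φ) : Function.Injective φ := by
  intro a b hab
  rw [← hφ.iter a, ← hφ.iter b]
  obtain ⟨k, rfl⟩ : ∃ k, p = k + 1 := ⟨p - 1, by have := hφ.prime.pos; omega⟩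
  rw [Function.iterate_succ_apply, Function.iterate_succ_apply, hab]

theorem FPF.bijective (hφ : FPF p φ) : Function.Bijective φ := by
  refine ⟨hφ.injective, fun a => ?_⟩
  obtain ⟨k, rfl⟩ : ∃ k, p = k + 1 := ⟨p - 1, by have := hφ.prime.pos; omega⟩
  refine ⟨(φ^[k]) a, ?_⟩
  exact (Function.iterate_succ_apply' φ k a).symm.trans (hφ.iter a)

/-- The automorphism given by a fixed-point-free endomorphism of finite order. -/
noncomputable def FPF.equiv (hφ : FPF p φ) : G ≃* G := MulEquiv.ofBijective φ hφ.bijective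

theorem FPF.equiv_apply (hφ : FPF p φ) (x : G) : hφ.equiv x = φ x := rfl

/-- Powers `φ^i`, `0 < i < p`, are fixed-point-free too. -/
theorem FPF.iterate_fpf (hφ : FPF p φ) {i : ℕ} (hi : 0 < i) (hip : i < p) (g : G)
    (hg : (φ^[i]) g = g) : g = 1 := by
  apply hφ.fpf
  have hcop : Nat.Coprime i p := ((hφ.prime.coprime_iff_not_dvd.mpr fun h => by have := Nat.le_of_dvd hi h; omega).symm)
  -- all iterates `φ^[i*m]` fix `g`
  have hmul : ∀ m, (φ^[i * m]) g = g := by
    intro m
    induction m with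
    | zero => simp
    | succ m ih => rw [Nat.mul_succ, Function.iterate_add_apply, hg, ih]
  obtain ⟨m, hm⟩ : ∃ m, i * m ≡ 1 [MOD p] := by
    obtain ⟨m, hm⟩ := Nat.exists_mul_mod_eq_one_of_coprime hcop hφ.prime.one_lt
    exact ⟨m, by rw [Nat.ModEq, hm.2, Nat.mod_eq_of_lt hφ.prime.one_lt]⟩
  have h1 : 1 ≤ i * m := by
    rcases Nat.eq_zero_or_pos (i * m) with h0 | h0
    · rw [h0] at hm
      have := (Nat.modEq_iff_dvd' (Nat.zero_le 1)).mp hm
      exact absurd (Nat.le_of_dvd (by norm_num) this) (by have := hφ.prime.one_lt; omega)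
    · exact h0
  obtain ⟨c, hc⟩ := (Nat.modEq_iff_dvd' h1).mp hm.symm
  have h2 : i * m = 1 + p * c := by omega
  have h3 := hmul m
  rw [h2, Function.iterate_add_apply, hφ.iter_mul] at h3
  exact h3

theorem mk_mem_of_fixed [Finite G] (hfpf : ∀ g, φ g = g → g = 1) (N : Subgroup G)
    (hN : ∀ n ∈ N, φ n ∈ N) (x : G) (hx : (φ x)⁻¹ * x ∈ N) : x ∈ N := by
  let f : N → N := fun n => ⟨(φ n)⁻¹ * n, N.mul_mem (N.inv_mem (hN n n.2)) n.2⟩
  have hinj : Function.Injective f := by
    rintro ⟨a, ha⟩ ⟨b, hb⟩ hab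
    have h1 : (φ a)⁻¹ * a = (φ b)⁻¹ * b := congrArg Subtype.val hab
    have h2 : φ (a * b⁻¹) = a * b⁻¹ := by
      rw [map_mul, map_inv]
      have h3 : a = φ a * ((φ b)⁻¹ * b) := by rw [← h1]; group
      calc φ a * (φ b)⁻¹ = φ a * ((φ b)⁻¹ * b) * b⁻¹ := by group
        _ = a * b⁻¹ := by rw [← h3]
    exact Subtype.ext (mul_inv_eq_one.mp (hfpf _ h2))
  have hsurj : Function.Surjective f := Finite.surjective_of_injective hinj
  obtain ⟨⟨n, hn⟩, hfn⟩ := hsurj ⟨_, hx⟩
  have h1 : (φ n)⁻¹ * n = (φ x)⁻¹ * x := congrArg Subtype.val hfn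
  have h2 : φ (x * n⁻¹) = x * n⁻¹ := by
    rw [map_mul, map_inv]
    have h3 : x = φ x * ((φ n)⁻¹ * n) := by rw [h1]; group
    calc φ x * (φ n)⁻¹ = φ x * ((φ n)⁻¹ * n) * n⁻¹ := by group
      _ = x * n⁻¹ := by rw [← h3]
  rw [mul_inv_eq_one.mp (hfpf _ h2)]
  exact hn

theorem map_iter (φ : G →* G) (N : Subgroup G) [N.Normal] (hN : ∀ n ∈ N, φ n ∈ N) (n : ℕ) (x : G) :
    ((QuotientGroup.map N N φ hN)^[n]) (x : G ⧸ N) = ((φ^[n] x : G) : G ⧸ N) := by
  induction n with
  | zero => rfl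
  | succ n ih =>
    rw [Function.iterate_succ_apply', Function.iterate_succ_apply', ih]
    rfl

/-- Quotient of a fixed-point-free automorphism. -/
theorem FPF.quotient [Finite G] (hφ : FPF p φ) (N : Subgroup G) [N.Normal]
    (hN : ∀ n ∈ N, φ n ∈ N) : FPF p (QuotientGroup.map N N φ hN) where
  prime := hφ.prime
  fpf := by
    intro g
    obtain ⟨x, rfl⟩ := QuotientGroup.mk_surjective g
    intro hx
    have hx' : ((φ x : G) : G ⧸ N) = (x : G ⧸ N) := hx
    rw [QuotientGroup.eq] at hx'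
    rw [QuotientGroup.eq_one_iff]
    exact mk_mem_of_fixed hφ.fpf N hN x hx'
  iter := by
    intro g
    obtain ⟨x, rfl⟩ := QuotientGroup.mk_surjective g
    rw [map_iter, hφ.iter]

/-- The set of Sylow subgroups has an invariant member. -/
theorem FPF.exists_sylow [Finite G] (hφ : FPF p φ) (q : ℕ) [Fact q.Prime] :
    ∃ P : Sylow q G, ∀ x ∈ P, φ x ∈ P := by
  obtain ⟨P⟩ : Nonempty (Sylow q G) := inferInstance
  let f : MulAut G := hφ.equiv
  have hff : MonoidHom.FixedPointFree (f : G →* G) := fun g hg => hφ.fpf g hg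
  obtain ⟨g, hg⟩ := MulAction.exists_smul_eq G P (f • P)
  obtain ⟨u, hu⟩ := hff.commutatorMap_surjective g⁻¹
  have hu' : u * (f u)⁻¹ = g⁻¹ := by
    rw [← hu, MonoidHom.commutatorMap_apply, div_eq_mul_inv]; rfl
  have hf : ∀ h : G, f • (MulAut.conj h • P) = MulAut.conj (f h) • (f • P) := by
    intro h
    rw [smul_smul, smul_smul]
    congr 1
    ext x
    simp [MulAut.mul_apply]
  refine ⟨MulAut.conj u⁻¹ • P, ?_⟩
  have h1 : f • (MulAut.conj u⁻¹ • P) = MulAut.conj u⁻¹ • P := by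
    rw [hf, ← hg, Sylow.smul_def, smul_smul, ← map_mul]
    congr 2
    rw [map_inv]
    apply eq_inv_of_mul_eq_one_right
    rw [← mul_assoc, hu', inv_mul_cancel]
  intro x hx
  have h2 : f • x ∈ f • (MulAut.conj u⁻¹ • P) := (Subgroup.smul_mem_pointwise_smul_iff).2 hx
  rw [h1] at h2
  exact h2

end Basic

section Key

open Finset

/-- Averaging identity: for `V` abelian, `F` acting on `V`, and `φ` of prime order acting compatibly
and fixed-point-freely on `V` and on `F`, `v ^ |F| = ∏ y, y • v`. -/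
theorem pow_card_eq_prod {V F : Type*} [CommGroup V] [Group F] [Fintype F] [Finite V]
    (act : F → V →* V) (act_one : ∀ v, act 1 v = v)
    (act_mul : ∀ f g v, act (f * g) v = act f (act g v))
    {p : ℕ} (α : V →* V) (β : F →* F)
    (hp : p.Prime)
    (hα : ∀ v, α v = v → v = 1) (hαp : ∀ v, (α^[p]) v = v)
    (hβ : ∀ i, 0 < i → i < p → ∀ x, (β^[i]) x = x → x = 1)
    (hcomp : ∀ f v, α (act f v) = act (β f) (α v)) (v : V) :
    v ^ Fintype.card F = ∏ y : F, act y v := by
  classical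
  -- iterates are compatible
  have hcomp' : ∀ n f v, (α^[n]) (act f v) = act ((β^[n]) f) ((α^[n]) v) := by
    intro n
    induction n with
    | zero => intro f v; rfl
    | succ n ih =>
      intro f v
      rw [Function.iterate_succ_apply', ih, hcomp, Function.iterate_succ_apply',
        Function.iterate_succ_apply']
  -- the norm vanishes
  have hnorm : ∀ w : V, ∏ i ∈ range p, (α^[i]) w = 1 := by
    intro w
    apply hα
    rw [map_prod]
    have h1 : ∀ i, α ((α^[i]) w) = (α^[i + 1]) w := fun i =>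
      (Function.iterate_succ_apply' α i w).symm
    simp only [h1]
    have h2 := Finset.prod_range_succ' (fun i => (α^[i]) w) p
    have h3 := Finset.prod_range_succ (fun i => (α^[i]) w) p
    rw [h3, hαp] at h2
    simp only [Function.iterate_zero, id_eq] at h2
    exact (mul_right_cancel h2).symm
  -- act by `x` on the norm of `x⁻¹ v`
  have h1 : ∀ x : F, ∏ i ∈ range p, act (x * ((β^[i]) x)⁻¹) ((α^[i]) v) = 1 := by
    intro x
    have h2 : act x (∏ i ∈ range p, (α^[i]) (act x⁻¹ v)) = 1 := by rw [hnorm, map_one]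
    rw [map_prod] at h2
    rw [← h2]
    refine Finset.prod_congr rfl fun i _ => ?_
    rw [hcomp', iterate_map_inv, act_mul]
  -- average over `F`
  have h2 : ∏ i ∈ range p, ∏ x : F, act (x * ((β^[i]) x)⁻¹) ((α^[i]) v) = 1 := by
    rw [Finset.prod_comm]
    exact Finset.prod_eq_one fun x _ => h1 x
  have h3 : ∏ i ∈ range p, ∏ y : F, act y ((α^[i]) v) = 1 := by
    rw [Finset.prod_comm]
    refine Finset.prod_eq_one fun y _ => ?_
    rw [← map_prod, hnorm, map_one]
  obtain ⟨k, rfl⟩ : ∃ k, p = k + 1 := ⟨p - 1, by have := hp.pos; omega⟩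
  rw [Finset.prod_range_succ'] at h2 h3
  have h4 : ∏ i ∈ range k, ∏ x : F, act (x * ((β^[i + 1]) x)⁻¹) ((α^[i + 1]) v) =
      ∏ i ∈ range k, ∏ y : F, act y ((α^[i + 1]) v) := by
    refine Finset.prod_congr rfl fun i hi => ?_
    have hi' : i + 1 < k + 1 := by have := Finset.mem_range.mp hi; omega
    let e : F → F := fun x => x * ((β^[i + 1]) x)⁻¹
    have he : Function.Bijective e := by
      rw [← Finite.injective_iff_bijective]
      intro a b hab
      have hab' : a * ((β^[i + 1]) a)⁻¹ = b * ((β^[i + 1]) b)⁻¹ := hab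
      have h5 : (β^[i + 1]) (b⁻¹ * a) = b⁻¹ * a := by
        rw [iterate_map_mul, iterate_map_inv]
        have h6 : a = b * ((β^[i + 1]) b)⁻¹ * (β^[i + 1]) a := by rw [← hab']; group
        calc ((β^[i + 1]) b)⁻¹ * (β^[i + 1]) a
            = b⁻¹ * (b * ((β^[i + 1]) b)⁻¹ * (β^[i + 1]) a) := by group
          _ = b⁻¹ * a := by rw [← h6]
      have h7 := hβ (i + 1) (Nat.succ_pos i) hi' _ h5
      exact (inv_mul_eq_one.mp h7).symm
    exact Fintype.prod_bijective e he _ _ fun x => rfl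
  rw [h4] at h2
  have h8 : ∏ x : F, act (x * ((β^[0]) x)⁻¹) ((α^[0]) v) = ∏ y : F, act y ((α^[0]) v) :=
    mul_left_cancel (h2.trans h3.symm)
  simp only [Function.iterate_zero, id_eq, mul_inv_cancel, act_one, Finset.prod_const,
    Finset.card_univ] at h8
  exact h8

theorem act_trivial_of_coprime {V F : Type*} [CommGroup V] [Group F] [Finite F] [Finite V]
    (act : F → V →* V) (act_one : ∀ v, act 1 v = v)
    (act_mul : ∀ f g v, act (f * g) v = act f (act g v))
    {p : ℕ} (α : V →* V) (β : F →* F)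
    (hp : p.Prime)
    (hα : ∀ v, α v = v → v = 1) (hαp : ∀ v, (α^[p]) v = v)
    (hβ : ∀ i, 0 < i → i < p → ∀ x, (β^[i]) x = x → x = 1)
    (hcomp : ∀ f v, α (act f v) = act (β f) (α v))
    (hcop : (Nat.card V).Coprime (Nat.card F)) (f : F) (v : V) :
    act f v = v := by
  classical
  have := Fintype.ofFinite F
  have h1 := pow_card_eq_prod act act_one act_mul α β hp hα hαp hβ hcomp
  have h2 : act f (v ^ Fintype.card F) = v ^ Fintype.card F := by
    conv_lhs => rw [h1, map_prod]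
    rw [h1]
    exact Fintype.prod_bijective (fun y => f * y) (Group.mulLeft_bijective f) _ _
      fun y => (act_mul f y v).symm
  rw [map_pow] at h2
  rw [← Nat.card_eq_fintype_card] at h2
  exact hcop.pow_left_bijective.injective h2

end Key

section Subgroups

variable {G : Type u} [Group G] {p : ℕ} {φ : G →* G}

/-- If `V` is an abelian `φ`-invariant subgroup normalised by the `φ`-invariant subgroup `F` of coprime
order, then `F` centralises `V`. -/
theorem FPF.commute_of_coprime [Finite G] (hφ : FPF p φ) (V F : Subgroup G)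
    (hVc : ∀ a ∈ V, ∀ b ∈ V, a * b = b * a) (hV : ∀ x ∈ V, φ x ∈ V) (hF : ∀ x ∈ F, φ x ∈ F)
    (hFV : ∀ f ∈ F, ∀ v ∈ V, f * v * f⁻¹ ∈ V) (hcop : (Nat.card V).Coprime (Nat.card F))
    {f v : G} (hf : f ∈ F) (hv : v ∈ V) : f * v = v * f := by
  let _ : CommGroup V := { (inferInstance : Group V) with
    mul_comm := fun a b => Subtype.ext (hVc a a.2 b b.2) }
  let act : F → V →* V := fun f =>
    { toFun := fun v => ⟨f * v * (f : G)⁻¹, hFV f f.2 v v.2⟩
      map_one' := Subtype.ext (by simp)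
      map_mul' := fun a b => Subtype.ext (by
        show (f : G) * (a * b) * (f : G)⁻¹ = (f * a * (f : G)⁻¹) * (f * b * (f : G)⁻¹)
        group) }
  have h := act_trivial_of_coprime act (fun v => Subtype.ext (by
      show ((1 : F) : G) * v * ((1 : F) : G)⁻¹ = v
      simp)) (fun f g v => Subtype.ext (by
      show ((f * g : F) : G) * v * ((f * g : F) : G)⁻¹ = f * (g * v * (g : G)⁻¹) * (f : G)⁻¹
      push_cast
      group)) (Cfsg.Agent.Solvable.FpfPrime.restr φ V hV)
      (Cfsg.Agent.Solvable.FpfPrime.restr φ F hF) hφ.prime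
      (hφ.restr V hV).fpf (hφ.restr V hV).iter
      (fun i hi hip x hx => (hφ.restr F hF).iterate_fpf hi hip x hx)
      (fun f v => Subtype.ext (by
        show φ (f * v * (f : G)⁻¹) = φ f * φ v * (φ f)⁻¹
        rw [map_mul, map_mul, map_inv])) hcop ⟨f, hf⟩ ⟨v, hv⟩
  have h' : f * v * f⁻¹ = v := congrArg Subtype.val h
  exact mul_inv_eq_iff_eq_mul.mp h'

end Subgroups

section SolvableCase

variable {G : Type u} [Group G] {p : ℕ} {φ : G →* G}

/-- A characteristic subgroup is invariant under `φ`. -/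
theorem FPF.mem_of_characteristic (hφ : FPF p φ) (H : Subgroup G) [hH : H.Characteristic] :
    ∀ x ∈ H, φ x ∈ H := by
  intro x hx
  have h1 := Subgroup.characteristic_iff_map_eq.mp hH hφ.equiv
  have h2 : hφ.equiv.toMonoidHom x ∈ H.map hφ.equiv.toMonoidHom := Subgroup.mem_map_of_mem _ hx
  rw [h1] at h2
  exact h2

/-- A finite group is nilpotent if every prime has a normal Sylow subgroup. -/
theorem isNilpotent_of_exists_normal_sylow [Finite G]
    (h : ∀ (q : ℕ) (_ : Fact q.Prime), ∃ Q : Sylow q G, (Q : Subgroup G).Normal) :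
    Group.IsNilpotent G := by
  apply (Group.isNilpotent_of_finite_tfae (G := G)).out 3 0 |>.mp
  intro q hq P
  obtain ⟨Q, hQ⟩ := h q hq
  have := Q.unique_of_normal hQ
  rw [Subsingleton.elim P Q]
  exact hQ

/-- The elements of `r`-power order of an abelian subgroup. -/
def primaryPart (r : ℕ) (A : Subgroup G) (hA : ∀ a ∈ A, ∀ b ∈ A, a * b = b * a) : Subgroup G where
  carrier := {a | a ∈ A ∧ ∃ k, a ^ r ^ k = 1}
  one_mem' := ⟨A.one_mem, 0, one_pow _⟩
  mul_mem' := by
    rintro a b ⟨ha, k, hk⟩ ⟨hb, l, hl⟩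
    refine ⟨A.mul_mem ha hb, k + l, ?_⟩
    rw [(show Commute a b from hA a ha b hb).mul_pow, pow_add, pow_mul, hk, one_pow, one_mul,
      mul_comm, pow_mul, hl, one_pow]
  inv_mem' := by
    rintro a ⟨ha, k, hk⟩
    exact ⟨A.inv_mem ha, k, by rw [inv_pow, hk, inv_one]⟩

theorem mem_primaryPart {r : ℕ} {A : Subgroup G} {hA : ∀ a ∈ A, ∀ b ∈ A, a * b = b * a} {x : G} :
    x ∈ primaryPart r A hA ↔ x ∈ A ∧ ∃ k, x ^ r ^ k = 1 := Iff.rfl

/-- In a nontrivial finite solvable group with a fixed-point-free automorphism there is a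
nontrivial invariant normal abelian `r`-subgroup. -/
theorem FPF.exists_abelian [Finite G] [Nontrivial G] [Group.IsSolvable G] (hφ : FPF p φ) :
    ∃ (r : ℕ) (V : Subgroup G), r.Prime ∧ V ≠ ⊥ ∧ V.Normal ∧ IsPGroup r V ∧
      (∀ a ∈ V, ∀ b ∈ V, a * b = b * a) ∧ ∀ x ∈ V, φ x ∈ V := by
  obtain ⟨D, hDc, hDm, hD⟩ := Cfsg.Agent.Lib.SolvableNormalP.exists_comm_characteristic G
  have hcard : Nat.card D ≠ 1 := by
    rw [Ne, Subgroup.card_eq_one]; exact hD
  obtain ⟨r, hr, hrd⟩ := Nat.exists_prime_and_dvd hcard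
  have : Fact r.Prime := ⟨hr⟩
  have hDcomm : ∀ a ∈ D, ∀ b ∈ D, a * b = b * a := fun a ha b hb =>
    congrArg Subtype.val (hDm.is_comm.comm (⟨a, ha⟩ : D) ⟨b, hb⟩)
  have hDφ := hφ.mem_of_characteristic D
  have hDn : D.Normal := inferInstance
  refine ⟨r, primaryPart r D hDcomm, hr, ?_, ⟨?_⟩, ?_, ?_, ?_⟩
  · obtain ⟨⟨x, hxD⟩, hx⟩ := exists_prime_orderOf_dvd_card' r hrd
    intro h
    have hx1 : x ^ r ^ 1 = 1 := by
      have := pow_orderOf_eq_one (⟨x, hxD⟩ : D)
      rw [hx] at this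
      rw [pow_one]
      exact congrArg Subtype.val this
    have hx2 : x ∈ primaryPart r D hDcomm := ⟨hxD, 1, hx1⟩
    rw [h, Subgroup.mem_bot] at hx2
    subst hx2
    have : orderOf (⟨1, hxD⟩ : D) = 1 := orderOf_eq_one_iff.mpr rfl
    rw [this] at hx
    exact hr.one_lt.ne hx
  · rintro x ⟨hx, k, hk⟩ g
    exact ⟨hDn.conj_mem x hx g, k, by rw [conj_pow, hk, mul_one, mul_inv_cancel]⟩
  · rintro ⟨x, hx, k, hk⟩
    exact ⟨k, Subtype.ext hk⟩
  · intro a ha b hb
    exact hDcomm a ha.1 b hb.1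
  · rintro x ⟨hx, k, hk⟩
    exact ⟨hDφ x hx, k, by rw [← map_pow, hk, map_one]⟩

/-- Thompson's theorem for solvable groups. -/
theorem FPF.isNilpotent_of_isSolvable {G : Type u} [Group G] [Finite G] [hS : Group.IsSolvable G]
    {p : ℕ} {φ : G →* G} (hφ : FPF p φ) : Group.IsNilpotent G := by
  revert p φ hS
  refine Cfsg.Agent.Lib.SolvableNormalP.card_strong_induction
    (motive := fun G _ _ => ∀ [hS : Group.IsSolvable G] {p : ℕ} {φ : G →* G} (_ : FPF p φ),
      Group.IsNilpotent G) ?_ G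
  intro G _ _ ih hS p φ hφ
  rcases subsingleton_or_nontrivial G with hG | hG
  · infer_instance
  obtain ⟨r, V, hr, hV, hVn, hVr, hVc, hVφ⟩ := hφ.exists_abelian
  have : Fact r.Prime := ⟨hr⟩
  have hquot : Group.IsNilpotent (G ⧸ V) :=
    ih (G ⧸ V) (Cfsg.Agent.Lib.SolvableNormalP.card_quotient_lt hV) (hφ.quotient V hVφ)
  apply isNilpotent_of_exists_normal_sylow
  intro q hq
  obtain ⟨Q, hQ⟩ := hφ.exists_sylow q
  refine ⟨Q, ?_⟩
  -- `Q ⊔ V` is normal
  have hQV : ((Q : Subgroup G) ⊔ V).Normal := by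
    have h1 : ((Q.mapSurjective (QuotientGroup.mk'_surjective V) : Sylow q (G ⧸ V)) :
        Subgroup (G ⧸ V)).Normal := by
      have := (Group.isNilpotent_of_finite_tfae (G := G ⧸ V)).out 0 3 |>.mp hquot
      exact this q hq _
    have h2 : ((Q : Subgroup G) ⊔ V) = ((Q.mapSurjective (QuotientGroup.mk'_surjective V) :
        Sylow q (G ⧸ V)) : Subgroup (G ⧸ V)).comap (QuotientGroup.mk' V) := by
      rw [Sylow.coe_mapSurjective, Subgroup.comap_map_eq, QuotientGroup.ker_mk']
    rw [h2]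
    infer_instance
  by_cases hqr : q = r
  · subst hqr
    have h1 : V ≤ Q := by
      exact IsPGroup.le_sylow_of_normal hVr Q
    rwa [sup_eq_left.mpr h1] at hQV
  · -- `Q` centralises `V`
    obtain ⟨n, hn⟩ := IsPGroup.iff_card.mp Q.2
    obtain ⟨m, hm⟩ := IsPGroup.iff_card.mp hVr
    have hcop : (Nat.card V).Coprime (Nat.card (Q : Subgroup G)) := by
      rw [hm, hn]
      exact Nat.Coprime.pow _ _ ((Nat.coprime_primes hr hq.out).mpr (Ne.symm hqr))
    have hcomm : ∀ f ∈ (Q : Subgroup G), ∀ v ∈ V, f * v = v * f := fun f hf v hv =>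
      hφ.commute_of_coprime V Q hVc hVφ hQ (fun f _ v hv => hVn.conj_mem v hv f) hcop hf hv
    -- `Q` is the set of `q`-elements of `Q ⊔ V`
    have hel : ∀ x ∈ (Q : Subgroup G) ⊔ V, (∃ k, x ^ q ^ k = 1) → x ∈ (Q : Subgroup G) := by
      rintro x hx ⟨k, hk⟩
      rw [Subgroup.mem_sup_of_normal_right] at hx
      obtain ⟨a, ha, v, hv, rfl⟩ := hx
      rw [(show Commute a v from hcomm a ha v hv).mul_pow] at hk
      have h3 : v ^ q ^ k ∈ (Q : Subgroup G) ⊓ V := by
        refine ⟨?_, V.pow_mem hv _⟩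
        have : v ^ q ^ k = (a ^ q ^ k)⁻¹ := by rw [eq_inv_iff_mul_eq_one, ← hk,
          ((show Commute a v from hcomm a ha v hv).pow_pow (q ^ k) (q ^ k)).eq]
        rw [this]
        exact Subgroup.inv_mem _ (Subgroup.pow_mem _ ha _)
      have h4 : (Q : Subgroup G) ⊓ V = ⊥ := (Subgroup.disjoint_of_coprime_natCard hcop.symm).eq_bot
      rw [h4, Subgroup.mem_bot] at h3
      have h5 : v = 1 := by
        have h6 : (⟨v, hv⟩ : V) ^ q ^ k = 1 := Subtype.ext h3
        have hcop2 : (Nat.card V).Coprime (q ^ k) := by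
          rw [hm]
          exact Nat.Coprime.pow _ _ ((Nat.coprime_primes hr hq.out).mpr (Ne.symm hqr))
        have h7 := hcop2.pow_left_bijective.injective (a₁ := (⟨v, hv⟩ : V)) (a₂ := 1)
          (by rw [h6, one_pow])
        exact congrArg Subtype.val h7
      rw [h5, mul_one]
      exact ha
    constructor
    intro x hx g
    apply hel
    · exact hQV.conj_mem x (le_sup_left (a := (Q : Subgroup G)) (b := V) hx) g
    · obtain ⟨k, hk⟩ := Q.2 ⟨x, hx⟩
      refine ⟨k, ?_⟩
      have hk' : x ^ q ^ k = 1 := congrArg Subtype.val hk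
      rw [conj_pow, hk', mul_one, mul_inv_cancel]

/-- Convenience: the solvable case of Thompson's theorem, for an automorphism given as `K ≃* K`. -/
theorem isNilpotent_of_isSolvable {K : Type u} [Group K] [Finite K] (hK : Group.IsSolvable K)
    (φ : K ≃* K) (p : ℕ) (hp : p.Prime) (hφ : ∀ x, (φ^[p]) x = x) (hfpf : ∀ x, φ x = x → x = 1) :
    Group.IsNilpotent K :=
  FPF.isNilpotent_of_isSolvable (p := p) (φ := (φ : K →* K)) ⟨hp, hfpf, hφ⟩

end SolvableCase

end Cfsg.Agent.Solvable.FpfPrime
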