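import Mathlib
import Cfsg.Prelude.Def_Transfer
import Cfsg.Agent.Solvable.FpfPrime
import Cfsg.Agent.Transfer.NormalPComplement
import Cfsg.Agent.PLocal.ThompsonJ
set_option linter.all false

/-!
Thompson's theorem on fixed-point-free automorphisms of prime order, deduced from his normal
`p`-complement theorem (taken here as a hypothesis, see `S0033` for the final form).
-/

set_option autoImplicit false

namespace Cfsg.Agent.Solvable.FpfThompson

open Cfsg Cfsg.Agent.Solvable.FpfPrime Cfsg.Agent.PLocal.ThompsonJ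

universe u

/-- A finite nilpotent group has a normal `r`-complement for every prime `r`. -/
theorem hasNormalPComplement_of_isNilpotent {K : Type u} [Group K] [Finite K]
    (hK : Group.IsNilpotent K) (r : ℕ) [hr : Fact r.Prime] : HasNormalPComplement r K := by
  rw [Cfsg.Agent.Transfer.NormalPComplement.hasNormalPComplement_iff]
  by_cases hrK : r ∣ Nat.card K
  · obtain ⟨e⟩ := (Group.isNilpotent_of_finite_tfae (G := K)).out 0 4 |>.mp hK
    obtain ⟨P⟩ : Nonempty (Sylow r K) := inferInstance
    have hmem : r ∈ (Nat.card K).primeFactors :=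
      Nat.mem_primeFactors.mpr ⟨hr.out, hrK, Nat.card_pos.ne'⟩
    let f : K →* P :=
      { toFun := fun g => e.symm g ⟨r, hmem⟩ P
        map_one' := by rw [map_one]; rfl
        map_mul' := fun a b => by rw [map_mul]; rfl }
    refine ⟨f.ker, inferInstance, ?_, ?_⟩
    · rw [Nat.coprime_comm, hr.out.coprime_iff_not_dvd]
      intro hdvd
      obtain ⟨x, hx⟩ := exists_prime_orderOf_dvd_card' r hdvd
      have hxr : (x : K) ^ r = 1 := by
        have := pow_orderOf_eq_one x
        rw [hx] at this
        exact congrArg Subtype.val this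
      have hx1 : e.symm (x : K) = 1 := by
        funext q Q
        have hq : Fact (q : ℕ).Prime := ⟨Nat.prime_of_mem_primeFactors q.2⟩
        have h1 : (e.symm (x : K) q Q) ^ r = 1 := by
          have h2 : e.symm ((x : K) ^ r) q Q = (e.symm (x : K) q Q) ^ r := by
            rw [map_pow]; rfl
          rw [← h2, hxr, map_one]; rfl
        obtain ⟨q, hq'⟩ := q
        by_cases hqr : q = r
        · subst hqr
          have hPn : (P : Subgroup K).Normal := inferInstance
          have := P.unique_of_normal hPn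
          obtain rfl : Q = P := Subsingleton.elim Q P
          exact x.2
        · obtain ⟨k, hk⟩ := Q.2 (e.symm (x : K) ⟨q, hq'⟩ Q)
          have hcop : Nat.Coprime r (q ^ k) :=
            Nat.Coprime.pow_right k ((Nat.coprime_primes hr.out hq.out).mpr (Ne.symm hqr))
          have h3 : orderOf (e.symm (x : K) ⟨q, hq'⟩ Q) ∣ Nat.gcd r (q ^ k) :=
            Nat.dvd_gcd (orderOf_dvd_of_pow_eq_one h1) (orderOf_dvd_of_pow_eq_one hk)
          rw [hcop.gcd_eq_one, Nat.dvd_one, orderOf_eq_one_iff] at h3
          exact h3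
      have hx2 : (x : K) = 1 := by
        rw [← map_one e.symm] at hx1
        exact e.symm.injective hx1
      have hx3 : x = 1 := Subtype.ext hx2
      rw [hx3, orderOf_one] at hx
      exact hr.out.one_lt.ne hx
    · exact IsPGroup.of_injective P.2 (QuotientGroup.kerLift f) (QuotientGroup.kerLift_injective f)
  · refine ⟨⊤, inferInstance, ?_, ?_⟩
    · rw [Subgroup.card_top, Nat.coprime_comm, hr.out.coprime_iff_not_dvd]
      exact hrK
    · intro g
      exact ⟨0, by
        obtain ⟨x, rfl⟩ := QuotientGroup.mk_surjective g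
        rw [pow_zero, pow_one, QuotientGroup.eq_one_iff]
        exact Subgroup.mem_top x⟩

section Invariance

variable {G : Type u} [Group G] {p : ℕ} {φ : G →* G}

/-- `φ` maps an invariant subgroup of a finite group onto itself. -/
theorem exists_of_mem [Finite G] (hφ : FPF p φ) {H : Subgroup G} (h : ∀ x ∈ H, φ x ∈ H) {y : G}
    (hy : y ∈ H) : ∃ x ∈ H, φ x = y := by
  have h1 : Function.Injective (restr φ H h) := (hφ.restr H h).injective
  obtain ⟨x, hx⟩ := (Finite.injective_iff_surjective.mp h1) ⟨y, hy⟩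
  exact ⟨x, x.2, congrArg Subtype.val hx⟩

theorem centralizer_invariant [Finite G] (hφ : FPF p φ) {H : Subgroup G} (h : ∀ x ∈ H, φ x ∈ H) :
    ∀ x ∈ Subgroup.centralizer (H : Set G), φ x ∈ Subgroup.centralizer (H : Set G) := by
  intro x hx
  rw [Subgroup.mem_centralizer_iff] at hx ⊢
  intro y hy
  obtain ⟨z, hz, rfl⟩ := exists_of_mem hφ h hy
  rw [← map_mul, ← map_mul, hx z hz]

theorem normalizer_invariant [Finite G] (hφ : FPF p φ) {H : Subgroup G} (h : ∀ x ∈ H, φ x ∈ H) :
    ∀ x ∈ Subgroup.normalizer (H : Set G), φ x ∈ Subgroup.normalizer (H : Set G) := by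
  intro x hx
  have key : ∀ g : G, g ∈ Subgroup.normalizer (H : Set G) → ∀ y ∈ H, φ g * y * (φ g)⁻¹ ∈ H := by
    intro g hg y hy
    obtain ⟨z, hz, rfl⟩ := exists_of_mem hφ h hy
    rw [← map_inv, ← map_mul, ← map_mul]
    exact h _ ((Subgroup.mem_normalizer_iff.mp hg z).mp hz)
  rw [Subgroup.mem_normalizer_iff]
  intro y
  constructor
  · exact key x hx y
  · intro hy
    have h1 := key x⁻¹ (Subgroup.inv_mem _ hx) _ hy
    rw [map_inv] at h1
    have h2 : (φ x)⁻¹ * (φ x * y * (φ x)⁻¹) * ((φ x)⁻¹)⁻¹ = y := by group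
    rwa [h2] at h1

theorem inf_invariant {H K : Subgroup G} (h : ∀ x ∈ H, φ x ∈ H) (h' : ∀ x ∈ K, φ x ∈ K) :
    ∀ x ∈ H ⊓ K, φ x ∈ H ⊓ K := fun x hx => ⟨h x hx.1, h' x hx.2⟩

theorem thompson_invariant (hφ : FPF p φ) (r : ℕ) {P : Subgroup G} (h : ∀ x ∈ P, φ x ∈ P) :
    ∀ x ∈ thompsonSubgroupOf r P, φ x ∈ thompsonSubgroupOf r P := by
  rintro _ ⟨x, hx, rfl⟩
  have := thompsonSubgroup_characteristic r P
  exact ⟨restr φ P h x, (hφ.restr P h).mem_of_characteristic (thompsonSubgroup r P) x hx, rfl⟩

end Invariance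

/-- Thompson's theorem: a finite group with a fixed-point-free automorphism of prime order is
nilpotent, given the normal `r`-complement theorem for odd `r`. -/
theorem isNilpotent_of_thompson
    (hT : ∀ (G : Type u) [Group G] [Finite G] (r : ℕ) [Fact r.Prime], r ≠ 2 → ∀ P : Sylow r G,
      HasNormalPComplement r (Subgroup.normalizer (thompsonSubgroupOf r (P : Subgroup G) : Set G)) →
      HasNormalPComplement r (Subgroup.centralizer
        (((P : Subgroup G) ⊓ Subgroup.centralizer (P : Set G)) : Set G)) →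
      HasNormalPComplement r G)
    {G : Type u} [Group G] [Finite G] {p : ℕ} {φ : G →* G} (hφ : FPF p φ) :
    Group.IsNilpotent G := by
  revert p φ
  refine Cfsg.Agent.Lib.SolvableNormalP.card_strong_induction
    (motive := fun G _ _ => ∀ {p : ℕ} {φ : G →* G} (_ : FPF p φ), Group.IsNilpotent G) ?_ G
  intro G _ _ ih p φ hφ
  -- a proper nontrivial invariant normal subgroup makes `G` solvable
  have hnorm : ∀ N : Subgroup G, N.Normal → (∀ x ∈ N, φ x ∈ N) → N ≠ ⊥ → N ≠ ⊤ →
      Group.IsNilpotent G := by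
    intro N hN hNφ hN1 hN2
    have h1 : Group.IsNilpotent N :=
      ih N (Cfsg.Agent.Lib.SolvableNormalP.card_lt_of_ne_top hN2) (hφ.restr N hNφ)
    have h2 : Group.IsNilpotent (G ⧸ N) :=
      ih (G ⧸ N) (Cfsg.Agent.Lib.SolvableNormalP.card_quotient_lt hN1) (hφ.quotient N hNφ)
    have h3 : Group.IsSolvable N := inferInstance
    have h4 : Group.IsSolvable (G ⧸ N) := inferInstance
    have h5 : Group.IsSolvable G :=
      Group.isSolvable_of_ker_le_range N.subtype (QuotientGroup.mk' N) (by
        rw [QuotientGroup.ker_mk', Subgroup.range_subtype])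
    exact hφ.isNilpotent_of_isSolvable
  -- choose an odd prime divisor
  by_cases hodd : ∃ r : ℕ, r.Prime ∧ r ≠ 2 ∧ r ∣ Nat.card G
  · obtain ⟨r, hr, hr2, hrG⟩ := hodd
    have : Fact r.Prime := ⟨hr⟩
    obtain ⟨P, hP⟩ := hφ.exists_sylow r
    have hPne : (P : Subgroup G) ≠ ⊥ := P.ne_bot_of_dvd_card hrG
    have hrP : r ∣ Nat.card P := P.dvd_card_of_dvd_card hrG
    have : Nontrivial P := (Subgroup.nontrivial_iff_ne_bot _).mpr hPne
    -- the Thompson subgroup
    have hJφ := thompson_invariant hφ r hP
    have hJne : thompsonSubgroupOf r (P : Subgroup G) ≠ ⊥ := by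
      rw [thompsonSubgroupOf_def, Ne, Subgroup.map_eq_bot_iff_of_injective _
        (Subgroup.subtype_injective _)]
      exact thompsonSubgroup_ne_bot hrP
    have hJle := thompsonSubgroupOf_le_self r (P : Subgroup G)
    -- the centre
    set Z : Subgroup G := (P : Subgroup G) ⊓ Subgroup.centralizer ((P : Subgroup G) : Set G) with hZ
    have hZφ : ∀ x ∈ Z, φ x ∈ Z := inf_invariant hP (centralizer_invariant hφ hP)
    have hZne : Z ≠ ⊥ := by
      have h1 : Nontrivial (Subgroup.center P) := P.2.center_nontrivial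
      obtain ⟨z, hz⟩ := exists_ne (1 : Subgroup.center P)
      intro h
      have h2 : ((z : P) : G) ∈ Z := by
        refine ⟨(z : P).2, ?_⟩
        show ((z : P) : G) ∈ Subgroup.centralizer ((P : Subgroup G) : Set G)
        rw [Subgroup.mem_centralizer_iff]
        intro y hy
        exact congrArg Subtype.val (Subgroup.mem_center_iff.mp z.2 ⟨y, hy⟩)
      rw [h, Subgroup.mem_bot] at h2
      exact hz (Subtype.ext (Subtype.ext h2))
    -- a group equal to its Sylow subgroup is nilpotent
    by_cases hPtop : (P : Subgroup G) = ⊤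
    · have h1 : IsPGroup r G := by
        have := P.2
        rw [hPtop] at this
        exact this.of_equiv Subgroup.topEquiv
      exact h1.isNilpotent
    have hnt : ∀ X : Subgroup G, X ≤ P → X ≠ ⊤ := fun X hX h =>
      hPtop (top_le_iff.mp (h ▸ hX))
    by_cases hN : Subgroup.normalizer (thompsonSubgroupOf r (P : Subgroup G) : Set G) = ⊤
    · exact hnorm _ (Subgroup.normalizer_eq_top_iff.mp hN) hJφ hJne (hnt _ hJle)
    by_cases hC : Subgroup.centralizer (Z : Set G) = ⊤
    · refine hnorm Z ⟨fun n hn g => ?_⟩ hZφ hZne (hnt _ inf_le_left)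
      have h1 : g ∈ Subgroup.centralizer (Z : Set G) := by rw [hC]; exact Subgroup.mem_top g
      rw [Subgroup.mem_centralizer_iff] at h1
      rw [← h1 n hn, mul_inv_cancel_right]
      exact hn
    have h1 := hasNormalPComplement_of_isNilpotent (ih _
      (Cfsg.Agent.Lib.SolvableNormalP.card_lt_of_ne_top hN)
      (hφ.restr _ (normalizer_invariant hφ hJφ))) r
    have h2 := hasNormalPComplement_of_isNilpotent (ih _
      (Cfsg.Agent.Lib.SolvableNormalP.card_lt_of_ne_top hC)
      (hφ.restr _ (centralizer_invariant hφ hZφ))) r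
    have h3 := hT G r hr2 P h1 h2
    obtain ⟨N, hNn, hNc, hNq⟩ :=
      Cfsg.Agent.Transfer.NormalPComplement.hasNormalPComplement_iff.mp h3
    -- the complement is invariant
    have hNφ : ∀ x ∈ N, φ x ∈ N := by
      intro x hx
      have h4 := (Cfsg.Agent.Transfer.NormalPComplement.mem_iff_coprime_orderOf' N hNc hNq x).mp hx
      rw [Cfsg.Agent.Transfer.NormalPComplement.mem_iff_coprime_orderOf' N hNc hNq]
      rwa [orderOf_injective φ hφ.injective]
    have hNtop : N ≠ ⊤ := by
      rintro rfl
      rw [Subgroup.card_top] at hNc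
      exact (hr.coprime_iff_not_dvd.mp hNc.symm) hrG
    by_cases hNbot : N = ⊥
    · subst hNbot
      have h5 : IsPGroup r G := hNq.of_injective (QuotientGroup.mk' ⊥) (by
        rw [← MonoidHom.ker_eq_bot_iff, QuotientGroup.ker_mk'])
      exact h5.isNilpotent
    · exact hnorm N hNn hNφ hNbot hNtop
  · -- a `2`-group
    push Not at hodd
    have h1 : IsPGroup 2 G := by
      rw [IsPGroup.iff_card]
      exact ⟨_, Nat.eq_prime_pow_of_unique_prime_dvd Nat.card_pos.ne' (fun {d} hd hdG => by
        by_contra h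
        exact hodd d hd h hdG)⟩
    exact h1.isNilpotent

end Cfsg.Agent.Solvable.FpfThompson
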