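import Mathlib.GroupTheory.SchurZassenhaus
import Mathlib.GroupTheory.Solvable
import Mathlib.GroupTheory.Sylow
import Cfsg.Agent.S0002
set_option linter.all false

/-!
# Conjugacy part of Schur-Zassenhaus: auxiliary lemmas and the main induction
-/

set_option autoImplicit false
open Pointwise
open scoped commutatorElement

namespace Cfsg.Agent.Solvable.SZ

universe u

section basics

variable {G : Type*} [Group G]

/-- The image of a conjugate subgroup under a homomorphism. -/
theorem map_conj_smul {G' : Type*} [Group G'] (f : G →* G') (g : G) (H : Subgroup G) :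
    (MulAut.conj g • H).map f = MulAut.conj (f g) • H.map f := by
  ext x
  simp [Subgroup.mem_map, Subgroup.mem_smul_pointwise_iff_exists]

/-- Conjugate subgroups have the same order. -/
theorem card_conj_smul (g : G) (H : Subgroup G) :
    Nat.card (MulAut.conj g • H : Subgroup G) = Nat.card H :=
  (Nat.card_congr (Subgroup.equivSMul (MulAut.conj g) H).toEquiv).symm

/-- If the images of `H` and `K` in `G ⧸ P` are conjugate, then a conjugate of `H` lies in
`K ⊔ P`. -/
theorem conj_le_sup_of_quotient (P : Subgroup G) [P.Normal] (H K : Subgroup G)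
    (h : ∃ g : G ⧸ P, MulAut.conj g • H.map (QuotientGroup.mk' P) =
      K.map (QuotientGroup.mk' P)) :
    ∃ g : G, MulAut.conj g • H ≤ K ⊔ P := by
  obtain ⟨g, hg⟩ := h
  obtain ⟨g, rfl⟩ := QuotientGroup.mk'_surjective P g
  refine ⟨g, ?_⟩
  rw [← map_conj_smul] at hg
  have := congrArg (Subgroup.comap (QuotientGroup.mk' P)) hg
  rw [Subgroup.comap_map_eq, Subgroup.comap_map_eq, QuotientGroup.ker_mk'] at this
  exact le_sup_left.trans this.le

/-- Conjugacy inside a subgroup `L` gives conjugacy in `G` by an element of `L`. -/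
theorem conj_of_subgroupOf (L H K : Subgroup G) (hH : H ≤ L) (hK : K ≤ L)
    (h : ∃ g : L, MulAut.conj g • H.subgroupOf L = K.subgroupOf L) :
    ∃ g ∈ L, MulAut.conj g • H = K := by
  obtain ⟨g, hg⟩ := h
  refine ⟨g, g.2, ?_⟩
  have := congrArg (Subgroup.map L.subtype) hg
  rw [map_conj_smul, Subgroup.subgroupOf_map_subtype, Subgroup.subgroupOf_map_subtype,
    inf_of_le_left hH, inf_of_le_left hK] at this
  exact this

theorem relIndex_eq_index_of_sup_eq_top (N L : Subgroup G) [N.Normal] (h : L ⊔ N = ⊤) :
    N.relIndex L = N.index := by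
  rw [← N.relIndex_top_right, ← h]
  exact (Subgroup.relIndex_sup_right L N).symm

/-- In a finite group with normal Hall subgroup `N`, every subgroup of order `N.index` is a
complement. -/
theorem isComplement'_of_card_eq_index [Finite G] (N H : Subgroup G)
    (hN : (Nat.card N).Coprime N.index) (hH : Nat.card H = N.index) :
    Subgroup.IsComplement' N H :=
  Subgroup.isComplement'_of_coprime (by rw [hH, N.card_mul_index]) (by rwa [hH])

theorem isComplement'_iff_card_eq_index [Finite G] (N H : Subgroup G)
    (hN : (Nat.card N).Coprime N.index) :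
    Subgroup.IsComplement' N H ↔ Nat.card H = N.index :=
  ⟨fun h => h.symm.index_eq_card.symm, isComplement'_of_card_eq_index N H hN⟩

theorem commutator_lt_self (N : Subgroup G) (hs : Group.IsSolvable N) (hN : N ≠ ⊥) :
    ⁅N, N⁆ < N := by
  have hN' : Nontrivial N := (Subgroup.nontrivial_iff_ne_bot N).mpr hN
  have h1 := Group.IsSolvable.commutator_lt_top_of_nontrivial N
  rw [← Subgroup.map_subtype_lt_map_subtype, map_commutator_eq, ← MonoidHom.range_eq_map,
    Subgroup.range_subtype] at h1
  exact h1

theorem card_subgroupOf (H L : Subgroup G) (h : H ≤ L) :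
    Nat.card (H.subgroupOf L) = Nat.card H :=
  Nat.card_congr (Subgroup.subgroupOfEquivOfLe h).toEquiv

end basics

/-- A nontrivial finite solvable group has a nontrivial normal elementary abelian subgroup. -/
theorem exists_normal_elemAb (Q : Type*) [Group Q] [Finite Q] [Nontrivial Q]
    (h : Group.IsSolvable Q) :
    ∃ p : ℕ, p.Prime ∧ ∃ P : Subgroup Q, P.Normal ∧ P ≠ ⊥ ∧ (∀ x ∈ P, ∀ y ∈ P, x * y = y * x) ∧
      ∀ x ∈ P, x ^ p = 1 := by
  classical
  have hex : ∃ n, derivedSeries Q n = ⊥ := h.solvable
  obtain ⟨n, hn, hmin⟩ : ∃ n, derivedSeries Q n = ⊥ ∧ ∀ m < n, derivedSeries Q m ≠ ⊥ :=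
    ⟨Nat.find hex, Nat.find_spec hex, fun m hm => Nat.find_min hex hm⟩
  have hn0 : n ≠ 0 := by
    rintro rfl
    rw [derivedSeries_zero] at hn
    exact top_ne_bot hn
  obtain ⟨m, rfl⟩ := Nat.exists_eq_succ_of_ne_zero hn0
  set A := derivedSeries Q m with hA
  have hA1 : A ≠ ⊥ := hmin m (Nat.lt_succ_self m)
  have hA2 : ⁅A, A⁆ = ⊥ := hn
  have hAn : A.Normal := derivedSeries_normal Q m
  have hcomm : ∀ x ∈ A, ∀ y ∈ A, x * y = y * x := by
    intro x hx y hy
    have h1 : ⁅x, y⁆ ∈ ⁅A, A⁆ := Subgroup.commutator_mem_commutator hx hy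
    rw [hA2, Subgroup.mem_bot] at h1
    exact commutatorElement_eq_one_iff_mul_comm.mp h1
  have hcard : 1 < Nat.card A := A.one_lt_card_iff_ne_bot.mpr hA1
  set p := (Nat.card A).minFac with hp
  have hpp : p.Prime := Nat.minFac_prime hcard.ne'
  let P : Subgroup Q :=
    { carrier := {x | x ∈ A ∧ x ^ p = 1}
      one_mem' := ⟨A.one_mem, one_pow _⟩
      mul_mem' := by
        rintro a b ⟨ha, ha'⟩ ⟨hb, hb'⟩
        refine ⟨A.mul_mem ha hb, ?_⟩
        rw [(show Commute a b from hcomm a ha b hb).mul_pow, ha', hb', one_mul]
      inv_mem' := by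
        rintro a ⟨ha, ha'⟩
        exact ⟨A.inv_mem ha, by rw [inv_pow, ha', inv_one]⟩ }
  refine ⟨p, hpp, P, ⟨?_⟩, ?_, ?_, ?_⟩
  · rintro x ⟨hx, hx'⟩ g
    exact ⟨hAn.conj_mem x hx g, by rw [conj_pow, hx', mul_one, mul_inv_cancel]⟩
  · have : Fact p.Prime := ⟨hpp⟩
    obtain ⟨x, hx⟩ := exists_prime_orderOf_dvd_card' (G := A) p (Nat.minFac_dvd _)
    intro hP
    have hxP : (x : Q) ∈ P := by
      refine ⟨x.2, ?_⟩
      have := pow_orderOf_eq_one x
      rw [hx] at this
      exact_mod_cast congrArg (Subtype.val) this
    rw [hP, Subgroup.mem_bot] at hxP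
    have hx1 : x = 1 := Subtype.ext hxP
    rw [hx1, orderOf_one] at hx
    exact hpp.one_lt.ne hx
  · rintro x ⟨hx, -⟩ y ⟨hy, -⟩
    exact hcomm x hx y hy
  · rintro x ⟨-, hx⟩
    exact hx

/-- The main induction for the conjugacy part of Schur-Zassenhaus. -/
theorem main (n : ℕ) : ∀ (G : Type u) [Group G] [Finite G], Nat.card G = n →
    ∀ (N : Subgroup G) [N.Normal], (Nat.card N).Coprime N.index →
    ∀ H K : Subgroup G, (Group.IsSolvable N ∨ Group.IsSolvable H) →
      Nat.card H = N.index → Nat.card K = N.index →
      ∃ g : G, MulAut.conj g • H = K := by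
  induction n using Nat.strong_induction_on with
  | _ n ih =>
  intro G _ _ hn N _ hN H K hsolv hH hK
  -- reduction to a proper subgroup
  have stepL : ∀ L : Subgroup G, L ≠ ⊤ → ∀ H K : Subgroup G,
      (Group.IsSolvable N ∨ Group.IsSolvable H) →
      Nat.card H = N.index → Nat.card K = N.index → H ≤ L → K ≤ L →
      ∃ g : G, MulAut.conj g • H = K := by
    intro L hL H K hsolv hH hK hHL hKL
    have hHc := isComplement'_of_card_eq_index N H hN hH
    have hind : (N.subgroupOf L).index = N.index :=
      relIndex_eq_index_of_sup_eq_top N L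
        (top_le_iff.mp (by rw [← hHc.symm.sup_eq_top]; exact sup_le_sup_right hHL N))
    have hcard : Nat.card (N.subgroupOf L) ∣ Nat.card N :=
      Subgroup.card_comap_dvd_of_injective N L.subtype Subtype.coe_injective
    have hlt : Nat.card L < n := by
      rw [← hn, ← L.index_mul_card]
      exact lt_mul_of_one_lt_left Nat.card_pos (Subgroup.one_lt_index_of_ne_top hL)
    have hs : Group.IsSolvable (N.subgroupOf L) ∨ Group.IsSolvable (H.subgroupOf L) := by
      rcases hsolv with hs | hs
      · left
        exact Group.isSolvable_of_isSolvable_injective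
          (f := (L.subtype.comp (N.subgroupOf L).subtype).codRestrict N (fun x => x.2))
          (fun x y hxy => by
            apply Subtype.ext
            apply Subtype.ext
            exact congrArg (fun z : N => (z : G)) hxy)
      · right
        exact Group.isSolvable_of_isSolvable_injective
          (f := (Subgroup.subgroupOfEquivOfLe hHL).toMonoidHom)
          (Subgroup.subgroupOfEquivOfLe hHL).injective
    obtain ⟨g, -, hg⟩ := conj_of_subgroupOf L H K hHL hKL
      (ih (Nat.card L) hlt L rfl (N.subgroupOf L)
        (by rw [hind]; exact hN.coprime_dvd_left hcard) (H.subgroupOf L) (K.subgroupOf L) hs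
        (by rw [hind, card_subgroupOf H L hHL, hH]) (by rw [hind, card_subgroupOf K L hKL, hK]))
    exact ⟨g, hg⟩
  have hHc := isComplement'_of_card_eq_index N H hN hH
  have hKc := isComplement'_of_card_eq_index N K hN hK
  rcases hsolv with hs | hs
  · -- `N` solvable
    by_cases hab : ⁅N, N⁆ = ⊥
    · have : IsMulCommutative N := by
        refine ⟨⟨fun x y => Subtype.ext ?_⟩⟩
        have h1 : ⁅(x : G), (y : G)⁆ ∈ ⁅N, N⁆ := Subgroup.commutator_mem_commutator x.2 y.2
        rw [hab, Subgroup.mem_bot] at h1
        exact commutatorElement_eq_one_iff_mul_comm.mp h1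
      obtain ⟨a, -, ha⟩ := Cfsg.Agent.S0002.result N hN H K hHc hKc
      exact ⟨a, ha⟩
    · have hNb : N ≠ ⊥ := by
        rintro rfl
        exact hab (by simp)
      have hDN : ⁅N, N⁆ < N := commutator_lt_self N hs hNb
      set D := ⁅N, N⁆ with hD
      have hDn : D.Normal := Subgroup.commutator_normal N N
      -- the quotient by `D`
      have hq : ∃ g : G ⧸ D, MulAut.conj g • H.map (QuotientGroup.mk' D) =
          K.map (QuotientGroup.mk' D) := by
        have hNn : (N.map (QuotientGroup.mk' D)).Normal :=
          Subgroup.Normal.map inferInstance _ (QuotientGroup.mk'_surjective D)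
        have hNab : IsMulCommutative (N.map (QuotientGroup.mk' D)) := by
          refine ⟨⟨?_⟩⟩
          rintro ⟨_, x, hx, rfl⟩ ⟨_, y, hy, rfl⟩
          apply Subtype.ext
          change QuotientGroup.mk' D x * QuotientGroup.mk' D y =
            QuotientGroup.mk' D y * QuotientGroup.mk' D x
          rw [← commutatorElement_eq_one_iff_mul_comm, ← map_commutatorElement]
          exact (QuotientGroup.eq_one_iff _).mpr (Subgroup.commutator_mem_commutator hx hy)
        have hind : (N.map (QuotientGroup.mk' D)).index = N.index :=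
          Subgroup.index_map_eq N (QuotientGroup.mk'_surjective D)
            (by rw [QuotientGroup.ker_mk']; exact hDN.le)
        have hcop : (Nat.card (N.map (QuotientGroup.mk' D))).Coprime
            (N.map (QuotientGroup.mk' D)).index := by
          rw [hind]
          exact hN.coprime_dvd_left (N.card_map_dvd _)
        have hcardmap : ∀ H : Subgroup G, Nat.card H = N.index →
            Nat.card (H.map (QuotientGroup.mk' D)) = N.index := by
          intro H hH
          have hHc := isComplement'_of_card_eq_index N H hN hH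
          rw [← Subgroup.relIndex_ker, QuotientGroup.ker_mk', ← Subgroup.inf_relIndex_right]
          have : D ⊓ H = ⊥ := by
            rw [eq_bot_iff]
            exact (inf_le_inf_right H hDN.le).trans hHc.disjoint.le_bot
          rw [this, Subgroup.relIndex_bot_left, hH]
        obtain ⟨g, -, hg⟩ := Cfsg.Agent.S0002.result (N.map (QuotientGroup.mk' D)) hcop
          (H.map (QuotientGroup.mk' D)) (K.map (QuotientGroup.mk' D))
          (isComplement'_of_card_eq_index _ _ hcop (by rw [hcardmap H hH, hind]))
          (isComplement'_of_card_eq_index _ _ hcop (by rw [hcardmap K hK, hind]))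
        exact ⟨g, hg⟩
      obtain ⟨g, hg⟩ := conj_le_sup_of_quotient D H K hq
      have hL : K ⊔ D ≠ ⊤ := by
        intro htop
        have h1 := relIndex_eq_index_of_sup_eq_top D K htop
        have h2 : D.relIndex K ≤ Nat.card K := Nat.le_of_dvd Nat.card_pos (D.relIndex_dvd_card K)
        have h3 : N.index < D.index := Subgroup.index_strictAnti hDN
        omega
      obtain ⟨g', hg'⟩ := stepL (K ⊔ D) hL (MulAut.conj g • H) K (Or.inl hs)
        (by rw [card_conj_smul, hH]) hK hg le_sup_left
      exact ⟨g' * g, by rw [map_mul, mul_smul, hg']⟩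
  · -- `H ≅ G ⧸ N` solvable
    by_cases hNt : N = ⊤
    · subst hNt
      rw [Subgroup.index_top, Subgroup.card_eq_one] at hH hK
      exact ⟨1, by rw [hH, hK]; simp⟩
    have hQ : Group.IsSolvable (G ⧸ N) := by
      refine Group.isSolvable_of_surjective (f := (QuotientGroup.mk' N).comp H.subtype) ?_
      rw [← MonoidHom.range_eq_top, MonoidHom.range_comp, Subgroup.range_subtype]
      apply Subgroup.comap_injective (QuotientGroup.mk'_surjective N)
      rw [Subgroup.comap_map_eq, QuotientGroup.ker_mk', hHc.symm.sup_eq_top, Subgroup.comap_top]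
    have hQn : Nontrivial (G ⧸ N) := QuotientGroup.nontrivial_iff.mpr hNt
    obtain ⟨p, hp, P, hPn, hPb, -, hPp⟩ := exists_normal_elemAb (G ⧸ N) hQ
    have : Fact p.Prime := ⟨hp⟩
    have hPpg : IsPGroup p P := fun x => ⟨1, by
      apply Subtype.ext
      simpa using hPp x x.2⟩
    set M := P.comap (QuotientGroup.mk' N) with hM
    have hMn : M.Normal := hPn.comap _
    have hNM : N ≤ M := by
      intro x hx
      rw [hM, Subgroup.mem_comap]
      have : QuotientGroup.mk' N x = 1 := (QuotientGroup.eq_one_iff x).mpr hx
      rw [this]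
      exact P.one_mem
    have hMP : N.relIndex M = Nat.card P := by
      rw [← Subgroup.map_comap_eq_self_of_surjective (QuotientGroup.mk'_surjective N) P,
        ← Subgroup.relIndex_ker, QuotientGroup.ker_mk']
    have hcardinf : ∀ H : Subgroup G, Nat.card H = N.index →
        Nat.card (M.subgroupOf H) = Nat.card P := by
      intro H hH
      have hHc := isComplement'_of_card_eq_index N H hN hH
      have h1 := (M.subgroupOf H).card_mul_index
      have h2 : (M.subgroupOf H).index = M.index :=
        relIndex_eq_index_of_sup_eq_top M H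
          (top_le_iff.mp (by rw [← hHc.symm.sup_eq_top]; exact sup_le_sup_left hNM H))
      have h3 := Subgroup.relIndex_mul_index hNM
      rw [h2, hH, ← h3, hMP] at h1
      exact Nat.eq_of_mul_eq_mul_right (Nat.pos_of_ne_zero Subgroup.index_ne_zero_of_finite) h1
    have hcardinf' : ∀ H : Subgroup G, Nat.card H = N.index →
        Nat.card (H ⊓ M : Subgroup G) = Nat.card P := by
      intro H hH
      rw [← hcardinf H hH, ← card_subgroupOf (H ⊓ M) H inf_le_left, Subgroup.inf_subgroupOf_left]
    have hcardinf'' : ∀ H : Subgroup G, Nat.card H = N.index →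
        Nat.card (H.subgroupOf M) = Nat.card P := by
      intro H hH
      rw [← hcardinf' H hH, ← card_subgroupOf (H ⊓ M) M inf_le_right,
        Subgroup.inf_subgroupOf_right]
    have hpP : p ∣ Nat.card P := by
      obtain ⟨k, hk⟩ := IsPGroup.iff_card.mp hPpg
      have h1 : 1 < Nat.card P := P.one_lt_card_iff_ne_bot.mpr hPb
      have hk0 : k ≠ 0 := by
        rintro rfl
        rw [hk] at h1
        simp at h1
      rw [hk]
      exact dvd_pow_self p hk0
    have hpN : ¬ p ∣ Nat.card N := by
      intro hpN
      have h1 : p ∣ N.index := by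
        rw [← Subgroup.relIndex_mul_index hNM, hMP]
        exact hpP.mul_right _
      exact hp.one_lt.ne' (Nat.eq_one_of_dvd_coprimes hN hpN h1)
    have hsyl : ∀ H : Subgroup G, Nat.card H = N.index →
        ∃ S : Sylow p M, (S : Subgroup M) = H.subgroupOf M := by
      intro H hH
      have hpg : IsPGroup p (H.subgroupOf M) := by
        rw [IsPGroup.iff_card]
        obtain ⟨k, hk⟩ := IsPGroup.iff_card.mp hPpg
        exact ⟨k, by rw [hcardinf'' H hH, hk]⟩
      have hi : (H.subgroupOf M).index = Nat.card N := by
        have h1 := (H.subgroupOf M).card_mul_index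
        have h2 := (N.subgroupOf M).card_mul_index
        have h3 : (N.subgroupOf M).index = Nat.card P := hMP
        rw [card_subgroupOf N M hNM, h3] at h2
        rw [hcardinf'' H hH, ← h2, mul_comm (Nat.card N)] at h1
        exact Nat.eq_of_mul_eq_mul_left Nat.card_pos h1
      exact ⟨hpg.toSylow (by rw [hi]; exact hpN), rfl⟩
    obtain ⟨SH, hSH⟩ := hsyl H hH
    obtain ⟨SK, hSK⟩ := hsyl K hK
    obtain ⟨m, hm⟩ := MulAction.exists_smul_eq M SH SK
    have hm' : MulAut.conj m • H.subgroupOf M = K.subgroupOf M := by
      rw [← hSH, ← hSK, ← hm]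
      rfl
    have hm'' : MulAut.conj (m : G) • (H ⊓ M) = K ⊓ M := by
      have := congrArg (Subgroup.map M.subtype) hm'
      rw [map_conj_smul, Subgroup.subgroupOf_map_subtype, Subgroup.subgroupOf_map_subtype] at this
      exact this
    set H' := MulAut.conj (m : G) • H with hH'
    have hH'c : Nat.card H' = N.index := by rw [hH', card_conj_smul, hH]
    have hH's : Group.IsSolvable H' :=
      Group.isSolvable_of_surjective (f := (Subgroup.equivSMul (MulAut.conj (m : G)) H).toMonoidHom)
        (Subgroup.equivSMul (MulAut.conj (m : G)) H).surjective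
    have hDH : H' ⊓ M = K ⊓ M := by
      rw [← hm'', Subgroup.smul_inf, ← hH', Subgroup.Normal.conj_smul_eq_self]
    set D := K ⊓ M with hD
    have hDcard : Nat.card D = Nat.card P := hcardinf' K hK
    have hDK : D ≤ K := inf_le_left
    have hDH' : D ≤ H' := by rw [← hDH]; exact inf_le_left
    have hnormH : H' ≤ Subgroup.normalizer (D : Set G) := by
      rw [← hDH]
      rw [Subgroup.le_normalizer_iff]
      intro h hh k hk
      exact ⟨H'.mul_mem (H'.mul_mem hh hk.1) (H'.inv_mem hh), hMn.conj_mem k hk.2 h⟩
    have hnormK : K ≤ Subgroup.normalizer (D : Set G) := by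
      rw [Subgroup.le_normalizer_iff]
      intro h hh k hk
      exact ⟨K.mul_mem (K.mul_mem hh hk.1) (K.inv_mem hh), hMn.conj_mem k hk.2 h⟩
    have hfin : ∃ g : G, MulAut.conj g • H' = K := by
      by_cases hJ : Subgroup.normalizer (D : Set G) = ⊤
      · have hDn : D.Normal := Subgroup.normalizer_eq_top_iff.mp hJ
        have hDb : D ≠ ⊥ := by
          rw [← Subgroup.one_lt_card_iff_ne_bot, hDcard, Subgroup.one_lt_card_iff_ne_bot]
          exact hPb
        have hlt : Nat.card (G ⧸ D) < n := by
          rw [← hn, ← D.index_mul_card, ← D.index_eq_card]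
          exact lt_mul_of_one_lt_right (Nat.pos_of_ne_zero Subgroup.index_ne_zero_of_finite)
            (D.one_lt_card_iff_ne_bot.mpr hDb)
        have hNn : (N.map (QuotientGroup.mk' D)).Normal :=
          Subgroup.Normal.map inferInstance _ (QuotientGroup.mk'_surjective D)
        have hcop : (Nat.card (N.map (QuotientGroup.mk' D))).Coprime
            (N.map (QuotientGroup.mk' D)).index :=
          (hN.coprime_dvd_left (N.card_map_dvd _)).coprime_dvd_right
            (N.index_map_dvd (QuotientGroup.mk'_surjective D))
        have hcardmap : ∀ H : Subgroup G, Nat.card H = N.index → D ≤ H →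
            Nat.card (H.map (QuotientGroup.mk' D)) = (N.map (QuotientGroup.mk' D)).index := by
          intro H hH hDH
          have hHc := isComplement'_of_card_eq_index N H hN hH
          have hDN : N ⊓ D = ⊥ := by
            rw [eq_bot_iff]
            exact (inf_le_inf_left N hDH).trans hHc.disjoint.le_bot
          have h1 : D.relIndex H * Nat.card D = Nat.card H := by
            rw [← Subgroup.index_mul_card (D.subgroupOf H), card_subgroupOf D H hDH]
            rfl
          have h2 : N.relIndex (D ⊔ N) = Nat.card D := by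
            rw [Subgroup.relIndex_sup_right, ← Subgroup.inf_relIndex_right, hDN,
              Subgroup.relIndex_bot_left]
          have h3 := Subgroup.relIndex_mul_index (le_sup_right : N ≤ D ⊔ N)
          rw [← Subgroup.relIndex_ker, QuotientGroup.ker_mk', Subgroup.index_map,
            QuotientGroup.ker_mk', MonoidHom.range_eq_top.mpr (QuotientGroup.mk'_surjective D),
            Subgroup.index_top, mul_one, sup_comm]
          rw [h2, ← hH, ← h1, mul_comm] at h3
          exact (Nat.eq_of_mul_eq_mul_right Nat.card_pos h3).symm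
        have hsm : Group.IsSolvable (H'.map (QuotientGroup.mk' D)) :=
          Group.isSolvable_of_surjective (f := (QuotientGroup.mk' D).subgroupMap H')
            ((QuotientGroup.mk' D).subgroupMap_surjective H')
        obtain ⟨g, hg⟩ := conj_le_sup_of_quotient D H' K
          (ih (Nat.card (G ⧸ D)) hlt (G ⧸ D) rfl (N.map (QuotientGroup.mk' D)) hcop
            (H'.map (QuotientGroup.mk' D)) (K.map (QuotientGroup.mk' D)) (Or.inr hsm)
            (hcardmap H' hH'c hDH') (hcardmap K hK hDK))
        rw [sup_of_le_left hDK] at hg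
        exact ⟨g, Subgroup.eq_of_le_of_card_ge hg (by rw [card_conj_smul, hH'c, hK])⟩
      · exact stepL _ hJ H' K (Or.inr hH's) hH'c hK hnormH hnormK
    obtain ⟨g, hg⟩ := hfin
    exact ⟨g * m, by rw [map_mul, mul_smul, ← hH', hg]⟩

end Cfsg.Agent.Solvable.SZ
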