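import Mathlib
import Cfsg.Prelude.Def_Solvable
import Cfsg.Agent.Lib.SubnormalJoin
import Cfsg.Agent.Lib.Cores
set_option linter.all false

/-!
The Wielandt zipper lemma, Wielandt's subnormality criterion, and Baer's theorem.
-/

set_option autoImplicit false
open Pointwise

namespace Cfsg.Agent.Solvable.Zipper

universe u

/-- Conjugates of a subgroup that is subnormal in every proper subgroup containing it have the
same property. -/
theorem conj_subgroupOf_isSubnormal {G : Type*} [Group G] {S : Subgroup G} {H : Subgroup G}
    (x : G) (h : (S.subgroupOf (MulAut.conj x⁻¹ • H)).IsSubnormal) :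
    ((MulAut.conj x • S).subgroupOf H).IsSubnormal := by
  have hmem : ∀ y : H, (MulAut.conj x⁻¹) (y : G) ∈ (MulAut.conj x⁻¹ • H : Subgroup G) := by
    intro y
    exact Subgroup.smul_mem_pointwise_smul (y : G) (MulAut.conj x⁻¹) H y.2
  let f : H →* (MulAut.conj x⁻¹ • H : Subgroup G) :=
    ((MulAut.conj x⁻¹).toMonoidHom.comp H.subtype).codRestrict _ hmem
  have h1 := h.comap f
  have h2 : (S.subgroupOf (MulAut.conj x⁻¹ • H)).comap f = (MulAut.conj x • S).subgroupOf H := by
    ext y
    rw [Subgroup.mem_comap, Subgroup.mem_subgroupOf, Subgroup.mem_subgroupOf,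
      Subgroup.mem_pointwise_smul_iff_inv_smul_mem, ← map_inv]
    rfl
  rwa [h2] at h1

/-- **Wielandt's zipper lemma**: if `S` is subnormal in every proper subgroup of the finite group
`G` containing it, but not in `G`, then `S` lies in a unique maximal subgroup of `G`. -/
theorem zipper {G : Type*} [Group G] [Finite G] (S : Subgroup G)
    (h : ∀ H : Subgroup G, H < ⊤ → S ≤ H → (S.subgroupOf H).IsSubnormal)
    (hns : ¬ S.IsSubnormal) :
    ∃ M : Subgroup G, IsCoatom M ∧ S ≤ M ∧ ∀ K : Subgroup G, IsCoatom K → S ≤ K → K = M := by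
  induction S using WellFoundedGT.induction with
  | _ S ih =>
    have hnn : ¬ S.Normal := fun hn => hns hn.isSubnormal
    have hNt : Subgroup.normalizer (S : Set G) ≠ ⊤ := fun h1 =>
      hnn (Subgroup.normalizer_eq_top_iff.mp h1)
    obtain ⟨M, hM, hNM⟩ := (eq_top_or_exists_le_coatom
      (Subgroup.normalizer (S : Set G))).resolve_left hNt
    refine ⟨M, hM, Subgroup.le_normalizer.trans hNM, fun K hK hSK => ?_⟩
    have hSKs := h K hK.lt_top hSK
    by_cases hn : (S.subgroupOf K).Normal
    · have h1 : K ≤ M := ((Subgroup.normal_subgroupOf_iff_le_normalizer hSK).mp hn).trans hNM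
      exact (hK.le_iff_eq hM.1).mp h1 |>.symm
    · obtain ⟨x, hx1, hx2⟩ :=
        Cfsg.Agent.Lib.SubnormalJoin.exists_conj_le_normalizer hSKs hn
      -- transport to `G`
      have hconj : (MulAut.conj x • (S.subgroupOf K)).map K.subtype
          = MulAut.conj (x : G) • S := by
        ext y
        rw [Subgroup.mem_map]
        constructor
        · rintro ⟨z, hz, rfl⟩
          rw [Subgroup.mem_pointwise_smul_iff_inv_smul_mem, ← map_inv] at hz ⊢
          exact hz
        · intro hy
          have hyK : y ∈ K := by
            rw [Subgroup.mem_pointwise_smul_iff_inv_smul_mem, ← map_inv] at hy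
            have h1 : (x : G)⁻¹ * y * ((x : G)⁻¹)⁻¹ ∈ K := hSK hy
            have h2 := K.mul_mem (K.mul_mem x.2 h1) (K.inv_mem x.2)
            simpa [mul_assoc] using h2
          refine ⟨⟨y, hyK⟩, ?_, rfl⟩
          rw [Subgroup.mem_pointwise_smul_iff_inv_smul_mem, ← map_inv] at hy ⊢
          exact hy
      have hx1' : MulAut.conj (x : G) • S ≠ S := by
        intro h1
        apply hx1
        apply Subgroup.map_injective K.subtype_injective
        rw [hconj, h1, Subgroup.map_subgroupOf_eq_of_le hSK]
      have hxN : MulAut.conj (x : G) • S ≤ Subgroup.normalizer (S : Set G) := by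
        rw [← hconj]
        rintro _ ⟨z, hz, rfl⟩
        have h1 := hx2 hz
        rw [← Subgroup.subgroupOf_normalizer_eq hSK] at h1
        exact h1
      have hxK : MulAut.conj (x : G) • S ≤ K := by
        rw [← hconj]
        exact Subgroup.map_subtype_le _
      have hcard : Nat.card (MulAut.conj (x : G) • S : Subgroup G) = Nat.card S :=
        (Nat.card_congr (Subgroup.equivSMul (MulAut.conj (x : G)) S).toEquiv).symm
      have hlt : S < S ⊔ MulAut.conj (x : G) • S := by
        refine lt_of_le_of_ne le_sup_left fun h1 => ?_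
        have h2 : MulAut.conj (x : G) • S ≤ S := by
          rw [← sup_eq_left]; exact h1.symm
        exact hx1' (Subgroup.eq_of_le_of_card_ge h2 hcard.ge)
      have hTN : S ⊔ MulAut.conj (x : G) • S ≤ Subgroup.normalizer (S : Set G) :=
        sup_le Subgroup.le_normalizer hxN
      have hT1 : ∀ H : Subgroup G, H < ⊤ → S ⊔ MulAut.conj (x : G) • S ≤ H →
          ((S ⊔ MulAut.conj (x : G) • S).subgroupOf H).IsSubnormal := by
        intro H hH hTH
        have hS1 : S ≤ H := le_sup_left.trans hTH
        have hS2 : MulAut.conj (x : G) • S ≤ H := le_sup_right.trans hTH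
        rw [Subgroup.subgroupOf_sup hS1 hS2]
        refine Cfsg.Agent.Lib.SubnormalJoin.isSubnormal_sup (h H hH hS1)
          (conj_subgroupOf_isSubnormal (x : G) (h _ ?_ ?_))
        · rw [lt_top_iff_ne_top] at hH ⊢
          intro h1
          apply hH
          rw [eq_top_iff]
          intro y _
          have h2 : (MulAut.conj (x : G)⁻¹) y ∈ MulAut.conj (x : G)⁻¹ • H := by
            rw [h1]; trivial
          exact (Subgroup.smul_mem_pointwise_smul_iff (a := MulAut.conj (x : G)⁻¹)).mp h2
        · have h1 : MulAut.conj (x : G)⁻¹ • (MulAut.conj (x : G) • S) ≤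
              MulAut.conj (x : G)⁻¹ • H :=
            Subgroup.pointwise_smul_le_pointwise_smul_iff.mpr hS2
          rwa [smul_smul, ← map_mul, inv_mul_cancel, map_one, one_smul] at h1
      have hT2 : ¬ (S ⊔ MulAut.conj (x : G) • S).IsSubnormal := by
        intro h1
        exact hns (Subgroup.IsSubnormal.step _ _ hlt.le h1
          ((Subgroup.normal_subgroupOf_iff_le_normalizer hlt.le).mpr hTN))
      obtain ⟨M', hM', hTM', huniq⟩ := ih (S ⊔ MulAut.conj (x : G) • S) hlt hT1 hT2
      rw [huniq K hK (sup_le hSK hxK), huniq M hM (hTN.trans hNM)]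

theorem isSubnormal_of_forall_conj_aux (n : ℕ) :
    ∀ (G : Type u) [Group G] [Finite G], Nat.card G = n → ∀ A : Subgroup G,
      (∀ g : G, (A.subgroupOf (A ⊔ MulAut.conj g • A)).IsSubnormal) → A.IsSubnormal := by
  induction n using Nat.strong_induction_on with
  | _ n ih =>
    intro G _ _ hn A h
    by_contra hns
    have hproper : ∀ H : Subgroup G, H < ⊤ → A ≤ H → (A.subgroupOf H).IsSubnormal := by
      intro H hH hAH
      have hcard : Nat.card H < n := by
        rw [← hn, ← Subgroup.card_top (G := G)]
        refine lt_of_le_of_ne (Subgroup.card_le_of_le le_top) fun h => ?_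
        exact hH.ne (Subgroup.eq_of_le_of_card_ge le_top h.ge)
      refine ih _ hcard H rfl _ fun g => ?_
      have hle : A.subgroupOf H ⊔ MulAut.conj g • (A.subgroupOf H) ≤
          (A ⊔ MulAut.conj (g : G) • A).comap H.subtype := by
        refine sup_le (Subgroup.comap_mono le_sup_left) ?_
        refine le_trans ?_ (Subgroup.comap_mono (le_sup_right (a := A)))
        intro y hy
        rw [Subgroup.mem_pointwise_smul_iff_inv_smul_mem, ← map_inv] at hy
        rw [Subgroup.mem_comap, Subgroup.mem_pointwise_smul_iff_inv_smul_mem, ← map_inv]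
        exact hy
      let f : (A.subgroupOf H ⊔ MulAut.conj g • (A.subgroupOf H) : Subgroup H) →*
          (A ⊔ MulAut.conj (g : G) • A : Subgroup G) :=
        (H.subtype.comp (Subgroup.subtype _)).codRestrict _ (fun y => hle y.2)
      exact (h g).comap f
    obtain ⟨M, hM, hAM, huniq⟩ := zipper A hproper hns
    -- every conjugate of `A` lies in `M`
    have hconj : ∀ g : G, MulAut.conj g • A ≤ M := by
      intro g
      rcases eq_top_or_exists_le_coatom (A ⊔ MulAut.conj g • A) with ht | ⟨K, hK, hle⟩
      · exfalso
        apply hns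
        have h1 := h g
        rw [ht] at h1
        exact h1.trans le_top Subgroup.IsSubnormal.top
      · rw [← huniq K hK (le_sup_left.trans hle)]
        exact le_sup_right.trans hle
    have hncl : Subgroup.normalClosure (A : Set G) ≤ M := by
      rw [Subgroup.normalClosure, Subgroup.closure_le]
      intro y hy
      rw [Group.mem_conjugatesOfSet_iff] at hy
      obtain ⟨a, ha, hay⟩ := hy
      obtain ⟨c, hc⟩ := isConj_iff.mp hay
      have : (MulAut.conj c) a ∈ MulAut.conj c • A :=
        Subgroup.smul_mem_pointwise_smul a (MulAut.conj c) A ha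
      rw [← hc]
      exact hconj c this
    have hAN : A ≤ Subgroup.normalClosure (A : Set G) := Subgroup.le_normalClosure
    exact hns ((hproper _ (lt_of_le_of_lt hncl hM.lt_top) hAN).trans hAN
      (Subgroup.normalClosure_normal (s := (A : Set G))).isSubnormal)

/-- **Wielandt's subnormality criterion**: a subgroup of a finite group that is subnormal in its
join with each of its conjugates is subnormal. -/
theorem isSubnormal_of_forall_conj {G : Type*} [Group G] [Finite G] (A : Subgroup G)
    (h : ∀ g : G, (A.subgroupOf (A ⊔ MulAut.conj g • A)).IsSubnormal) : A.IsSubnormal :=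
  isSubnormal_of_forall_conj_aux (Nat.card G) G rfl A h

/-- Every subgroup of a finite nilpotent group is subnormal. -/
theorem isSubnormal_of_isNilpotent {G : Type*} [Group G] [Finite G] (hG : Group.IsNilpotent G)
    (A : Subgroup G) : A.IsSubnormal := by
  induction A using WellFoundedGT.induction with
  | _ A ih =>
    by_cases hA : A = ⊤
    · rw [hA]; exact Subgroup.IsSubnormal.top
    · have h1 : A < Subgroup.normalizer (A : Set G) :=
        Group.normalizerCondition_of_isNilpotent A (lt_top_iff_ne_top.mpr hA)
      exact Subgroup.IsSubnormal.step _ _ h1.le (ih _ h1)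
        ((Subgroup.normal_subgroupOf_iff_le_normalizer h1.le).mpr le_rfl)

/-- A subnormal nilpotent subgroup of a finite group lies in the Fitting subgroup. -/
theorem le_fittingSubgroup_of_isSubnormal {G : Type*} [Group G] [Finite G] {A : Subgroup G}
    (hA : A.IsSubnormal) (hn : Group.IsNilpotent A) : A ≤ Cfsg.fittingSubgroup G := by
  have key : ∀ H : Subgroup G, H.IsSubnormal →
      (Cfsg.fittingSubgroup H).map H.subtype ≤ Cfsg.fittingSubgroup G := by
    intro H hH
    induction hH with
    | top =>
      have h1 := Cfsg.Agent.Lib.Cores.map_subtype_fittingSubgroup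
        (inferInstance : (⊤ : Subgroup G).Normal)
      rw [h1]
      exact inf_le_right
    | step H K hHK hKs hN ih =>
      refine le_trans ?_ ih
      have h1 := Cfsg.Agent.Lib.Cores.map_subtype_fittingSubgroup hN
      have h2 : (Cfsg.fittingSubgroup (H.subgroupOf K)).map (H.subgroupOf K).subtype ≤
          Cfsg.fittingSubgroup K := by rw [h1]; exact inf_le_right
      refine le_trans (le_of_eq ?_) (Subgroup.map_mono (f := K.subtype) h2)
      have h3 := Cfsg.Agent.Lib.Cores.map_equiv_fittingSubgroup (Subgroup.subgroupOfEquivOfLe hHK)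
      rw [← h3, Subgroup.map_map, Subgroup.map_map]
      rfl
  have h1 := key A hA
  have h2 : Cfsg.fittingSubgroup A = ⊤ := by
    rw [eq_top_iff]
    refine Cfsg.Agent.Lib.Cores.le_fittingSubgroup inferInstance ?_
    exact (Group.isNilpotent_congr Subgroup.topEquiv).mpr hn
  rw [h2, ← MonoidHom.range_eq_map, Subgroup.range_subtype] at h1
  exact h1

/-- **Baer**: a subgroup of a finite group whose join with each of its conjugates is nilpotent is
subnormal and lies in the Fitting subgroup. -/
theorem baer {G : Type*} [Group G] [Finite G] (A : Subgroup G)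
    (h : ∀ g : G, Group.IsNilpotent (A ⊔ MulAut.conj g • A : Subgroup G)) :
    A.IsSubnormal ∧ A ≤ Cfsg.fittingSubgroup G := by
  have h1 : A.IsSubnormal :=
    isSubnormal_of_forall_conj A fun g => isSubnormal_of_isNilpotent (h g) _
  refine ⟨h1, le_fittingSubgroup_of_isSubnormal h1 ?_⟩
  have h2 := h 1
  rwa [map_one, one_smul, sup_idem] at h2

end Cfsg.Agent.Solvable.Zipper
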