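import Mathlib
set_option linter.all false

/-!
Corestriction of crossed homomorphisms, at the level of cocycles, and Gaschütz's splitting theorem.

Let `K` be an abelian normal subgroup of `G` and `U` a subgroup of finite index. A crossed homomorphism
`φ : U → K` (`φ (u v) = φ u * ᵘ(φ v)`) gives the crossed homomorphism `Φ : G → K`,
`Φ g = ∏ q : G ⧸ U, ᵗ'(φ (t'⁻¹ g t))` with `t = q.out`, `t' = (g • q).out`. If `φ` is the identity on
`K ≤ U`, then `Φ k = k ^ [G : U]` for `k ∈ K`.
-/

set_option autoImplicit false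

namespace Cfsg.Agent.Solvable.Gaschutz

open scoped IsMulCommutative

variable {G : Type*} [Group G]

/-- The representatives of `g • q` and `g * q.out` differ by an element of `U`. -/
theorem out_inv_mul_mem (U : Subgroup G) (g : G) (q : G ⧸ U) :
    (g • q).out⁻¹ * g * q.out ∈ U := by
  rw [mul_assoc, ← QuotientGroup.eq, QuotientGroup.out_eq']
  conv_lhs => rw [← QuotientGroup.out_eq' q]
  rfl

/-- Corestriction of a crossed homomorphism `φ` from `U` to `G`, with values in the abelian normal
subgroup `K`, together with its value on elements fixing all cosets. -/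
theorem exists_crossed (K U : Subgroup G) [K.Normal] [IsMulCommutative K] [Finite (G ⧸ U)]
    (φ : G → K)
    (hφ : ∀ u ∈ U, ∀ v ∈ U, φ (u * v) = φ u * MulAut.conjNormal u (φ v)) :
    ∃ Φ : G → K, (∀ g h, Φ (g * h) = Φ g * MulAut.conjNormal g (Φ h)) ∧
      (∀ k : K, (∀ q : G ⧸ U, (k : G) • q = q) →
        (∀ x : K, φ (x : G) = x) → Φ k = k ^ U.index) := by
  classical
  have := Fintype.ofFinite (G ⧸ U)
  refine ⟨fun g => ∏ q : G ⧸ U, MulAut.conjNormal (g • q).out (φ ((g • q).out⁻¹ * g * q.out)),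
    fun g h => ?_, fun k hk hid => ?_⟩
  · have h1 : (∏ q : G ⧸ U, MulAut.conjNormal (g • q).out (φ ((g • q).out⁻¹ * g * q.out))) =
        ∏ q : G ⧸ U, MulAut.conjNormal (g • h • q).out
          (φ ((g • h • q).out⁻¹ * g * (h • q).out)) := by
      rw [← Equiv.prod_comp (MulAction.toPerm h)]
      rfl
    dsimp only
    rw [h1, map_prod, ← Finset.prod_mul_distrib]
    refine Finset.prod_congr rfl fun q _ => ?_
    have e : ((g * h) • q).out⁻¹ * (g * h) * q.out =
        ((g • h • q).out⁻¹ * g * (h • q).out) * ((h • q).out⁻¹ * h * q.out) := by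
      rw [mul_smul]; group
    rw [e, hφ _ (out_inv_mul_mem U g (h • q)) _ (out_inv_mul_mem U h q), map_mul, mul_smul]
    congr 1
    rw [← MulAut.mul_apply, ← MulAut.mul_apply, ← map_mul, ← map_mul]
    congr 2
    group
  · have h2 : ∀ q : G ⧸ U, MulAut.conjNormal ((k : G) • q).out
        (φ (((k : G) • q).out⁻¹ * k * q.out)) = k := by
      intro q
      rw [hk q]
      have h3 : q.out⁻¹ * (k : G) * q.out =
          ((MulAut.conjNormal (q.out⁻¹) k : K) : G) := by
        rw [MulAut.conjNormal_apply, inv_inv]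
      rw [h3, hid, ← MulAut.mul_apply, ← map_mul, mul_inv_cancel, map_one, MulAut.one_apply]
    show (∏ q : G ⧸ U, MulAut.conjNormal ((k : G) • q).out
        (φ (((k : G) • q).out⁻¹ * k * q.out))) = _
    rw [Finset.prod_congr rfl fun q _ => h2 q, Finset.prod_const, Finset.card_univ,
      Subgroup.index, Nat.card_eq_fintype_card]

/-- A crossed homomorphism `Φ : G → K` that restricts to a bijection on `K` gives a complement
of `K`. -/
theorem exists_complement_of_crossed (K : Subgroup G) [K.Normal] [IsMulCommutative K]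
    (Φ : G → K) (hΦ : ∀ g h, Φ (g * h) = Φ g * MulAut.conjNormal g (Φ h))
    (hb : Function.Bijective fun k : K => Φ (k : G)) :
    ∃ H : Subgroup G, Subgroup.IsComplement' K H ∧ ∀ g, g ∈ H ↔ Φ g = 1 := by
  have h1 : Φ 1 = 1 := by
    have := hΦ 1 1
    simpa using this
  refine ⟨{ carrier := {g | Φ g = 1}
            one_mem' := h1
            mul_mem' := fun {a b} ha hb => ?_
            inv_mem' := fun {a} ha => ?_ }, ?_, fun g => Iff.rfl⟩
  · change Φ a = 1 at ha
    change Φ b = 1 at hb
    show Φ (a * b) = 1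
    rw [hΦ, ha, hb, map_one, one_mul]
  · change Φ a = 1 at ha
    show Φ a⁻¹ = 1
    have := hΦ a⁻¹ a
    rwa [inv_mul_cancel, h1, ha, map_one, mul_one, eq_comm] at this
  · refine Subgroup.isComplement'_of_disjoint_and_mul_eq_univ ?_ ?_
    · rw [Subgroup.disjoint_def]
      intro x hx hx'
      have h3 : (⟨x, hx⟩ : K) = 1 := hb.1 (by
        show Φ x = Φ ((1 : K) : G)
        rw [OneMemClass.coe_one, h1]
        exact hx')
      simpa using congrArg Subtype.val h3
    · rw [Set.eq_univ_iff_forall]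
      intro g
      obtain ⟨k, hk⟩ := hb.2 (Φ g)
      simp only at hk
      refine Set.mem_mul.2 ⟨k, k.2, (k : G)⁻¹ * g, ?_, by group⟩
      have h4 := hΦ k ((k : G)⁻¹ * g)
      rw [mul_inv_cancel_left, hk] at h4
      have h5 : MulAut.conjNormal (k : G) (Φ ((k : G)⁻¹ * g)) = 1 := by
        simpa using h4.symm
      show Φ ((k : G)⁻¹ * g) = 1
      simpa using h5

/-- A complement `A` of the normal subgroup `K` of `U` gives a crossed homomorphism `U → K` that is
the identity on `K` and has kernel `A`. -/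
theorem exists_crossed_of_complement (K U : Subgroup G) [K.Normal] [IsMulCommutative K]
    (A : Subgroup G) (hAK : A ⊓ K = ⊥) (hKA : K ⊔ A = U) :
    ∃ φ : G → K, (∀ u ∈ U, ∀ v ∈ U, φ (u * v) = φ u * MulAut.conjNormal u (φ v)) ∧
      (∀ k : K, φ (k : G) = k) ∧ (∀ u ∈ U, (φ u = 1 ↔ u ∈ A)) ∧
      (∀ u ∈ U, ((φ u : K) : G)⁻¹ * u ∈ A) := by
  classical
  have hex : ∀ u ∈ U, ∃ k : K, (k : G)⁻¹ * u ∈ A := by
    intro u hu
    rw [← hKA] at hu
    obtain ⟨k, hk, a, ha, rfl⟩ := Subgroup.mem_sup_of_normal_left.1 hu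
    exact ⟨⟨k, hk⟩, by simpa using ha⟩
  have huniq : ∀ (u : G) (k l : K), (k : G)⁻¹ * u ∈ A → (l : G)⁻¹ * u ∈ A → k = l := by
    intro u k l hk hl
    have h1 : (k : G)⁻¹ * l ∈ A := by
      have := A.mul_mem hk (A.inv_mem hl)
      convert this using 1
      group
    have h2 : (k : G)⁻¹ * l ∈ A ⊓ K := ⟨h1, K.mul_mem (K.inv_mem k.2) l.2⟩
    rw [hAK, Subgroup.mem_bot, inv_mul_eq_one] at h2
    exact Subtype.ext h2
  let φ : G → K := fun u => if h : ∃ k : K, (k : G)⁻¹ * u ∈ A then h.choose else 1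
  have hφ : ∀ u ∈ U, ((φ u : K) : G)⁻¹ * u ∈ A := by
    intro u hu
    have h := hex u hu
    have : φ u = h.choose := dif_pos h
    rw [this]
    exact h.choose_spec
  have hKU : K ≤ U := hKA ▸ le_sup_left
  have hAU : A ≤ U := hKA ▸ le_sup_right
  refine ⟨φ, fun u hu v hv => ?_, fun k => ?_, fun u hu => ⟨fun h => ?_, fun h => ?_⟩, hφ⟩
  · refine huniq (u * v) _ _ (hφ _ (U.mul_mem hu hv)) ?_
    have h1 := A.mul_mem (hφ u hu) (hφ v hv)
    have hcomm : u * ((φ v : K) : G) * u⁻¹ * ((φ u : K) : G) =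
        ((φ u : K) : G) * (u * ((φ v : K) : G) * u⁻¹) := by
      have := mul_comm (MulAut.conjNormal u (φ v)) (φ u)
      have := congrArg (Subtype.val) this
      simpa [MulAut.conjNormal_apply] using this
    convert h1 using 1
    rw [Subgroup.coe_mul, MulAut.conjNormal_apply, ← hcomm]
    group
  · refine huniq (k : G) _ _ (hφ _ (hKU k.2)) ?_
    rw [inv_mul_cancel]
    exact A.one_mem
  · have := hφ u hu
    rw [h] at this
    simpa using this
  · refine huniq u _ _ (hφ u hu) ?_
    simpa using h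

/-- **Gaschütz's theorem** (existence): `K` abelian normal, complemented in `U` of index coprime to
the order of `K`; then `K` is complemented. The index need only be such that the corresponding power map
is bijective on `K`. -/
theorem exists_complement (K U : Subgroup G) [K.Normal] [IsMulCommutative K] [Finite (G ⧸ U)]
    (hb : Function.Bijective fun k : K => k ^ U.index)
    (A : Subgroup G) (hAK : A ⊓ K = ⊥) (hKA : K ⊔ A = U) :
    ∃ H : Subgroup G, Subgroup.IsComplement' K H := by
  obtain ⟨φ, hφ, hid, -⟩ := exists_crossed_of_complement K U A hAK hKA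
  obtain ⟨Φ, hΦ, hpow⟩ := exists_crossed K U φ hφ
  have hKU : K ≤ U := hKA ▸ le_sup_left
  have hfix : ∀ (k : K) (q : G ⧸ U), (k : G) • q = q := by
    intro k q
    conv_lhs => rw [← QuotientGroup.out_eq' q]
    conv_rhs => rw [← QuotientGroup.out_eq' q]
    rw [MulAction.Quotient.smul_mk, eq_comm, QuotientGroup.eq, smul_eq_mul, ← mul_assoc]
    apply hKU
    simpa using (inferInstance : K.Normal).conj_mem k k.2 q.out⁻¹
  obtain ⟨H, hH, -⟩ := exists_complement_of_crossed K Φ hΦ (by
    have : (fun k : K => Φ (k : G)) = fun k : K => k ^ U.index :=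
      funext fun k => hpow k (hfix k) hid
    rw [this]
    exact hb)
  exact ⟨H, hH⟩

end Cfsg.Agent.Solvable.Gaschutz
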