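import Mathlib.GroupTheory.Complement
import Mathlib.GroupTheory.GroupAction.Quotient
import Mathlib.GroupTheory.GroupAction.SubMulAction
import Mathlib.Data.Nat.ModEq
import Mathlib.Tactic
import Cfsg.Prelude.Def_Solvable
set_option linter.all false

/-!
# Elementary facts on Frobenius complements and the Frobenius kernel (as a set)
-/

set_option autoImplicit false

namespace Cfsg.Agent.Solvable.FrobeniusKernel

open scoped Pointwise

variable {G : Type*} [Group G] {H : Subgroup G}

/-- membership in a conjugate subgroup. -/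
theorem mem_conj_smul {H : Subgroup G} {g x : G} :
    x ∈ MulAut.conj g • H ↔ g⁻¹ * x * g ∈ H := by
  rw [Subgroup.mem_pointwise_smul_iff_inv_smul_mem, ← map_inv, MulAut.smul_def,
    MulAut.conj_apply, inv_inv]

theorem mem_kernel_iff {x : G} :
    x ∈ Cfsg.frobeniusKernel H ↔ x = 1 ∨ ∀ g : G, g⁻¹ * x * g ∉ H := by
  constructor
  · rintro (h | h)
    · exact Or.inl h
    · exact Or.inr fun g hg => h g (mem_conj_smul.2 hg)
  · rintro (h | h)
    · exact Or.inl h
    · exact Or.inr fun g hg => h g (mem_conj_smul.1 hg)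

theorem not_mem_kernel_iff {x : G} :
    x ∉ Cfsg.frobeniusKernel H ↔ x ≠ 1 ∧ ∃ g : G, g⁻¹ * x * g ∈ H := by
  rw [mem_kernel_iff, not_or]
  push Not
  rfl

/-- A Frobenius complement meets its conjugates trivially, elementwise. -/
theorem eq_one_of_mem (hH : Cfsg.IsFrobeniusComplement H) {g x : G} (hg : g ∉ H)
    (hx : x ∈ H) (hx' : g⁻¹ * x * g ∈ H) : x = 1 := by
  have h := hH.2.2 g hg
  have : x ∈ H ⊓ MulAut.conj g • H := ⟨hx, mem_conj_smul.2 hx'⟩
  rw [h] at this
  exact Subgroup.mem_bot.1 this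

/-- If a nontrivial element of `H` is conjugated by `g` into `H` then `g ∈ H`. -/
theorem mem_of_conj_mem (hH : Cfsg.IsFrobeniusComplement H) {g x : G}
    (hx : x ∈ H) (hx1 : x ≠ 1) (hx' : g⁻¹ * x * g ∈ H) : g ∈ H := by
  by_contra hg
  exact hx1 (eq_one_of_mem hH hg hx hx')

/-- Frobenius complements are self-normalizing. -/
theorem normalizer_eq (hH : Cfsg.IsFrobeniusComplement H) :
    Subgroup.normalizer (H : Set G) = H := by
  apply le_antisymm _ Subgroup.le_normalizer
  intro g hg
  obtain ⟨x, hx, hx1⟩ := H.bot_or_exists_ne_one.resolve_left hH.1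
  refine mem_of_conj_mem hH hx hx1 ?_
  exact (Subgroup.mem_normalizer_iff''.1 hg x).1 hx

/-- Centralizers of nontrivial elements of a Frobenius complement lie in it. -/
theorem centralizer_le (hH : Cfsg.IsFrobeniusComplement H) {x : G} (hx : x ∈ H) (hx1 : x ≠ 1) :
    Subgroup.centralizer {x} ≤ H := by
  intro g hg
  refine mem_of_conj_mem hH hx hx1 ?_
  have : x * g = g * x := Subgroup.mem_centralizer_singleton_iff.1 hg |>.symm
  rw [mul_assoc, this, ← mul_assoc, inv_mul_cancel, one_mul]
  exact hx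

theorem one_mem_kernel : (1 : G) ∈ Cfsg.frobeniusKernel H := Or.inl rfl

theorem conj_mem_kernel {x : G} (hx : x ∈ Cfsg.frobeniusKernel H) (g : G) :
    g * x * g⁻¹ ∈ Cfsg.frobeniusKernel H := by
  rw [mem_kernel_iff] at hx ⊢
  rcases hx with rfl | hx
  · left; simp
  · right
    intro k hk
    apply hx (g⁻¹ * k)
    convert hk using 1
    group

/-- The Frobenius kernel meets the complement trivially. -/
theorem eq_one_of_mem_kernel_of_mem {x : G} (hx : x ∈ Cfsg.frobeniusKernel H) (hxH : x ∈ H) :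
    x = 1 := by
  rw [mem_kernel_iff] at hx
  rcases hx with h | h
  · exact h
  · exact absurd (by simpa using hxH) (h 1)

/-- The Frobenius kernel is closed under powers. -/
theorem zpow_mem_kernel (hH : Cfsg.IsFrobeniusComplement H) {x : G}
    (hx : x ∈ Cfsg.frobeniusKernel H) (n : ℤ) : x ^ n ∈ Cfsg.frobeniusKernel H := by
  by_contra hcon
  obtain ⟨h1, g, hg⟩ := not_mem_kernel_iff.1 hcon
  rw [mem_kernel_iff] at hx
  rcases hx with rfl | hx
  · simp at h1
  · apply hx g
    -- `y = g⁻¹ x^n g ∈ H` is nontrivial and commutes with `g⁻¹ x g`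
    have hy1 : g⁻¹ * x ^ n * g ≠ 1 := by
      intro h
      apply h1
      have : x ^ n = g * (g⁻¹ * x ^ n * g) * g⁻¹ := by group
      rw [this, h]; simp
    apply centralizer_le hH hg hy1
    rw [Subgroup.mem_centralizer_singleton_iff]
    have e : g⁻¹ * x ^ n * g = (g⁻¹ * x * g) ^ n := by
      have := conj_zpow (i := n) (a := g⁻¹) (b := x)
      simpa using this.symm
    rw [e]
    exact (Commute.refl _).zpow_right n

section Card

variable (H) in
/-- The bijection counting elements outside the kernel. -/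
theorem bijective_out (hH : Cfsg.IsFrobeniusComplement H) :
    Function.Bijective
      (fun p : (G ⧸ H) × {h : G // h ∈ H ∧ h ≠ 1} =>
        (⟨p.1.out * p.2.1 * (p.1.out)⁻¹, by
          rw [Set.mem_compl_iff, not_mem_kernel_iff]
          refine ⟨?_, p.1.out, by simpa [mul_assoc] using p.2.2.1⟩
          intro h
          exact p.2.2.2 (by simpa using h)⟩ : ((Cfsg.frobeniusKernel H)ᶜ : Set G))) := by
  constructor
  · rintro ⟨q, h, hh, hh1⟩ ⟨q', h', hh', hh1'⟩ heq
    have heq' : q.out * h * (q.out)⁻¹ = q'.out * h' * (q'.out)⁻¹ := congrArg Subtype.val heq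
    have hq : q = q' := by
      have hmem : q.out⁻¹ * q'.out ∈ H := by
        refine mem_of_conj_mem hH hh hh1 ?_
        have : (q.out⁻¹ * q'.out)⁻¹ * h * (q.out⁻¹ * q'.out) = h' := by
          have : (q.out⁻¹ * q'.out)⁻¹ * h * (q.out⁻¹ * q'.out) =
              q'.out⁻¹ * (q.out * h * (q.out)⁻¹) * q'.out := by group
          rw [this, heq']
          group
        rw [this]; exact hh'
      have := QuotientGroup.eq.2 hmem
      rwa [QuotientGroup.out_eq', QuotientGroup.out_eq'] at this
    subst hq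
    have : h = h' := by
      have := mul_right_cancel heq'
      exact mul_left_cancel this
    subst this
    rfl
  · rintro ⟨x, hx⟩
    rw [Set.mem_compl_iff, not_mem_kernel_iff] at hx
    obtain ⟨hx1, g, hg⟩ := hx
    have hk : (g⁻¹ * (g : G ⧸ H).out) ∈ H := by
      rw [← QuotientGroup.eq, QuotientGroup.out_eq']
    refine ⟨⟨(g : G ⧸ H), ((g : G ⧸ H).out)⁻¹ * x * (g : G ⧸ H).out, ?_, ?_⟩, ?_⟩
    · have : ((g : G ⧸ H).out)⁻¹ * x * (g : G ⧸ H).out =
          (g⁻¹ * (g : G ⧸ H).out)⁻¹ * (g⁻¹ * x * g) * (g⁻¹ * (g : G ⧸ H).out) := by group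
      rw [this]
      exact H.mul_mem (H.mul_mem (H.inv_mem hk) hg) hk
    · intro h
      apply hx1
      have : x = (g : G ⧸ H).out * (((g : G ⧸ H).out)⁻¹ * x * (g : G ⧸ H).out) *
        ((g : G ⧸ H).out)⁻¹ := by group
      rw [this, h]; simp
    · apply Subtype.ext
      show (g : G ⧸ H).out * (((g : G ⧸ H).out)⁻¹ * x * (g : G ⧸ H).out) *
        ((g : G ⧸ H).out)⁻¹ = x
      group

theorem card_ne_one [Finite G] (H : Subgroup G) :
    Nat.card {h : G // h ∈ H ∧ h ≠ 1} = Nat.card H - 1 := by
  classical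
  have e : Nat.card {h : G // h ∈ H ∧ h ≠ 1} = ((H : Set G) \ {1}).ncard := rfl
  rw [e, Set.ncard_sdiff_singleton_of_mem H.one_mem]
  rfl

theorem card_kernel_compl [Finite G] (hH : Cfsg.IsFrobeniusComplement H) :
    ((Cfsg.frobeniusKernel H)ᶜ).ncard = H.index * (Nat.card H - 1) := by
  have := Nat.card_congr (Equiv.ofBijective _ (bijective_out H hH))
  rw [Nat.card_prod, card_ne_one] at this
  rw [← Nat.card_coe_set_eq, ← this]
  rfl

/-- The Frobenius kernel has as many elements as the index of the complement. -/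
theorem card_kernel [Finite G] (hH : Cfsg.IsFrobeniusComplement H) :
    Nat.card (Cfsg.frobeniusKernel H) = H.index := by
  have h1 := card_kernel_compl hH
  have h2 := Set.ncard_add_ncard_compl (Cfsg.frobeniusKernel H)
  have h3 : H.index * Nat.card H = Nat.card G := H.index_mul_card
  have h4 : 0 < Nat.card H := Nat.card_pos
  have h5 : H.index * (Nat.card H - 1) + H.index = Nat.card G := by
    rw [← h3]
    obtain ⟨k, hk⟩ : ∃ k, Nat.card H = k + 1 := ⟨Nat.card H - 1, by omega⟩
    rw [hk]
    simp [Nat.mul_add]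
  rw [Nat.card_coe_set_eq]
  omega

end Card

section Index

/-- The nontrivial cosets, as a sub-`H`-set of `G ⧸ H`. -/
def ntCosets (H : Subgroup G) : SubMulAction H (G ⧸ H) where
  carrier := {x | x ≠ ((1 : G) : G ⧸ H)}
  smul_mem' := by
    intro c x hx h
    apply hx
    have : x = c⁻¹ • ((1 : G) : G ⧸ H) := by rw [← h, inv_smul_smul]
    rw [this]
    show ((((c⁻¹ : H) : G) * 1 : G) : G ⧸ H) = _
    rw [mul_one, QuotientGroup.eq]
    simp

theorem mem_ntCosets (H : Subgroup G) (x : G ⧸ H) :
    x ∈ ntCosets H ↔ x ≠ ((1 : G) : G ⧸ H) := Iff.rfl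

theorem stabilizer_ntCosets (hH : Cfsg.IsFrobeniusComplement H) (x : ntCosets H) :
    MulAction.stabilizer H x = ⊥ := by
  rw [eq_bot_iff]
  intro h hh
  rw [MulAction.mem_stabilizer_iff] at hh
  obtain ⟨x, hx⟩ := x
  have hh' : h • x = x := congrArg Subtype.val hh
  rw [mem_ntCosets] at hx
  obtain ⟨g, rfl⟩ := QuotientGroup.mk_surjective x
  have hg : g ∉ H := by
    intro hg
    exact hx (QuotientGroup.eq.2 (by simpa using H.inv_mem hg))
  have h2 : (((h : G) * g : G) : G ⧸ H) = (g : G ⧸ H) := hh'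
  have h3 : g⁻¹ * ((h : G) * g) ∈ H := QuotientGroup.eq.1 h2.symm
  rw [← mul_assoc] at h3
  have := eq_one_of_mem hH hg h.2 h3
  rw [Subgroup.mem_bot]
  exact Subtype.ext this

/-- The order of a Frobenius complement divides its index minus one. -/
theorem card_dvd_index_sub_one [Finite G] (hH : Cfsg.IsFrobeniusComplement H) :
    Nat.card H ∣ H.index - 1 := by
  have h1 : Nat.card (ntCosets H) = H.index - 1 := by
    have e : Nat.card (ntCosets H) = ({((1 : G) : G ⧸ H)}ᶜ : Set (G ⧸ H)).ncard := rfl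
    rw [e, Set.ncard_compl, Set.ncard_singleton]
    rfl
  have h2 := Nat.card_congr
    (MulAction.selfEquivOrbitsQuotientProd (G := H) (X := ntCosets H) (stabilizer_ntCosets hH))
  rw [Nat.card_prod] at h2
  rw [← h1, h2]
  exact Dvd.intro_left _ rfl

theorem index_modEq_one [Finite G] (hH : Cfsg.IsFrobeniusComplement H) :
    H.index ≡ 1 [MOD Nat.card H] := by
  have h0 : 1 ≤ H.index := Nat.one_le_iff_ne_zero.2 H.index_ne_zero_of_finite
  exact ((Nat.modEq_iff_dvd' h0).2 (card_dvd_index_sub_one hH)).symm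

/-- The order and the index of a Frobenius complement are coprime. -/
theorem coprime_index_card [Finite G] (hH : Cfsg.IsFrobeniusComplement H) :
    H.index.Coprime (Nat.card H) := by
  have := (index_modEq_one hH).gcd_eq
  rw [Nat.gcd_one_left] at this
  exact this

end Index

end Cfsg.Agent.Solvable.FrobeniusKernel
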