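import Mathlib.RepresentationTheory.Character
import Mathlib.RepresentationTheory.Maschke
import Mathlib.RepresentationTheory.Semisimple
import Mathlib.Analysis.Complex.Basic
import Mathlib.Analysis.Complex.Polynomial.Basic
import Mathlib.Tactic
import Cfsg.Agent.Solvable.FrobeniusKernel
set_option linter.all false

/-!
# Frobenius' theorem (self-contained; `frobenius` is the main result)

Also: `character_induction` (additive induction on characters), `character_inv`
(`χ g⁻¹ = conj (χ g)`), `regRep_character`, `apply_eq_one_of_character`,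
`exists_rep_star` (every irreducible character of a Frobenius complement extends to an irreducible
character of the whole group which is constant on the kernel).
-/

set_option autoImplicit false

namespace Cfsg.Agent.Solvable.FrobeniusTheorem

universe u

open Representation Module

section Basic

variable {G : Type u} [Group G]

theorem character_eq_add {V : Type*} [AddCommGroup V] [Module ℂ V] [FiniteDimensional ℂ V]
    (ρ : Representation ℂ G V) {W W' : Subrepresentation ρ} (h : IsCompl W W') :
    ρ.character = W.toRepresentation.character + W'.toRepresentation.character := by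
  have hc : IsCompl W.toSubmodule W'.toSubmodule := by
    refine ⟨?_, ?_⟩
    · rw [disjoint_iff]
      exact congrArg Subrepresentation.toSubmodule h.inf_eq_bot
    · rw [codisjoint_iff]
      exact congrArg Subrepresentation.toSubmodule h.sup_eq_top
  ext g
  let e := Submodule.prodEquivOfIsCompl _ _ hc
  have : ρ g = e.conj ((W.toRepresentation g).prodMap (W'.toRepresentation g)) := by
    apply LinearMap.ext
    intro v
    obtain ⟨p, rfl⟩ := e.surjective v
    rw [LinearEquiv.conj_apply_apply, e.symm_apply_apply]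
    simp [e, Subrepresentation.toRepresentation]
  rw [Pi.add_apply, character, this, LinearMap.trace_conj', LinearMap.trace_prodMap']
  rfl

theorem character_induction_aux [Finite G] (P : (G → ℂ) → Prop) (h0 : P 0)
    (hadd : ∀ a b, P a → P b → P (a + b))
    (hirr : ∀ (V : Type u) [AddCommGroup V] [Module ℂ V] [FiniteDimensional ℂ V]
      (ρ : Representation ℂ G V), ρ.IsIrreducible → P ρ.character) (n : ℕ) :
    ∀ (V : Type u) [AddCommGroup V] [Module ℂ V] [FiniteDimensional ℂ V]
      (ρ : Representation ℂ G V), finrank ℂ V = n → P ρ.character := by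
  induction n using Nat.strong_induction_on with
  | _ n ih =>
    intro V _ _ _ ρ hV
    rcases subsingleton_or_nontrivial V with hs | hn
    · have : ρ.character = 0 := by
        ext g
        have : ρ g = 0 := by
          ext v
          exact Subsingleton.elim _ _
        rw [character, this]
        simp
      rw [this]; exact h0
    · by_cases hi : ρ.IsIrreducible
      · exact hirr V ρ hi
      · -- there is a proper nonzero subrepresentation
        have : Nontrivial (Subrepresentation ρ) := by
          refine ⟨⊥, ⊤, ?_⟩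
          intro h
          have : (⊥ : Submodule ℂ V) = ⊤ := congrArg Subrepresentation.toSubmodule h
          exact bot_ne_top this
        obtain ⟨W, hW0, hW1⟩ : ∃ W : Subrepresentation ρ, W ≠ ⊥ ∧ W ≠ ⊤ := by
          by_contra hcon
          push Not at hcon
          exact hi ⟨fun W => or_iff_not_imp_left.2 (hcon W)⟩
        obtain ⟨W', hW'⟩ := exists_isCompl W
        rw [character_eq_add ρ hW']
        have key : ∀ U : Subrepresentation ρ, U ≠ ⊤ → finrank ℂ U.toSubmodule < n := by
          intro U hU
          rw [← hV]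
          apply Submodule.finrank_lt
          intro h
          exact hU (Subrepresentation.toSubmodule_injective h)
        have hW'1 : W' ≠ ⊤ := by
          rintro rfl
          exact hW0 (by simpa using hW'.inf_eq_bot)
        exact hadd _ _ (ih _ (key W hW1) _ _ rfl) (ih _ (key W' hW'1) _ _ rfl)

theorem character_induction [Finite G] (P : (G → ℂ) → Prop) (h0 : P 0)
    (hadd : ∀ a b, P a → P b → P (a + b))
    (hirr : ∀ (V : Type u) [AddCommGroup V] [Module ℂ V] [FiniteDimensional ℂ V]
      (ρ : Representation ℂ G V), ρ.IsIrreducible → P ρ.character)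
    (V : Type u) [AddCommGroup V] [Module ℂ V] [FiniteDimensional ℂ V]
      (ρ : Representation ℂ G V) : P ρ.character :=
  character_induction_aux P h0 hadd hirr _ V ρ rfl

open scoped ComplexConjugate

theorem character_inv_of_comm [Finite G] [IsMulCommutative G] (V : Type u) [AddCommGroup V]
    [Module ℂ V] [FiniteDimensional ℂ V] (ρ : Representation ℂ G V) (g : G) :
    ρ.character g⁻¹ = conj (ρ.character g) := by
  revert g
  refine character_induction (fun χ => ∀ g, χ g⁻¹ = conj (χ g)) ?_ ?_ ?_ V ρ
  · intro g; simp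
  · intro a b ha hb g
    simp [ha g, hb g]
  · intro V _ _ _ ρ hρ g
    have h1 : finrank ℂ V = 1 := IsIrreducible.finrank_eq_one_of_isMulCommutative ρ
    have key : ∀ g, ρ g = (ρ.character g) • LinearMap.id := by
      intro g
      obtain ⟨c, hc, -⟩ := LinearMap.existsUnique_eq_smul_id_of_finrank_eq_one h1 (ρ g)
      have : ρ.character g = c := by
        rw [character, hc, map_smul, LinearMap.trace_id, h1]
        simp
      rw [this, hc]
    have hmul : ∀ a b, ρ.character (a * b) = ρ.character a * ρ.character b := by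
      intro a b
      have h2 : ρ (a * b) = ρ a * ρ b := map_mul ρ a b
      rw [key a, key b] at h2
      rw [character, h2, smul_mul_smul_comm, map_smul]
      have : (LinearMap.id : V →ₗ[ℂ] V) * LinearMap.id = LinearMap.id := rfl
      rw [this, LinearMap.trace_id, h1]
      simp
    have hone : ρ.character 1 = 1 := by rw [char_one, h1]; simp
    have hpow : ∀ n : ℕ, ρ.character (g ^ n) = ρ.character g ^ n := by
      intro n
      induction n with
      | zero => simp [h1]
      | succ n ih => rw [pow_succ, hmul, ih, pow_succ]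
    have hn : ‖ρ.character g‖ = 1 := by
      refine Complex.norm_eq_one_of_pow_eq_one (n := orderOf g) ?_ (orderOf_pos g).ne'
      rw [← hpow, pow_orderOf_eq_one, hone]
    have hinv : ρ.character g * ρ.character g⁻¹ = 1 := by
      rw [← hmul, mul_inv_cancel, hone]
    have h3 : ρ.character g * conj (ρ.character g) = 1 := by
      rw [Complex.mul_conj, Complex.normSq_eq_norm_sq, hn]; simp
    have h4 : ρ.character g ≠ 0 := by
      intro h; rw [h] at hinv; simp at hinv
    exact mul_left_cancel₀ h4 (hinv.trans h3.symm)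

theorem character_inv [Finite G] (V : Type u) [AddCommGroup V]
    [Module ℂ V] [FiniteDimensional ℂ V] (ρ : Representation ℂ G V) (g : G) :
    ρ.character g⁻¹ = conj (ρ.character g) := by
  let C := Subgroup.zpowers g
  let σ : Representation ℂ C V := MonoidHom.comp ρ C.subtype
  exact character_inv_of_comm V σ ⟨g, Subgroup.mem_zpowers g⟩

/-- If the character is constant on powers of `g` then `g` acts trivially. -/
theorem apply_eq_one_of_character [Finite G] (V : Type u) [AddCommGroup V]
    [Module ℂ V] [FiniteDimensional ℂ V] (ρ : Representation ℂ G V) (g : G)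
    (h : ∀ n : ℤ, ρ.character (g ^ n) = ρ.character 1) : ρ g = 1 := by
  classical
  let C := Subgroup.zpowers g
  let σ : Representation ℂ C V := MonoidHom.comp ρ C.subtype
  have : Fintype C := Fintype.ofFinite _
  have : Invertible (Nat.card C : ℂ) := invertibleOfNonzero (by exact_mod_cast Nat.card_pos.ne')
  have h1 := card_inv_mul_sum_char_eq_finrank σ
  have h2 : ∀ c : C, σ.character c = finrank ℂ V := by
    rintro ⟨c, n, rfl⟩
    rw [← char_one ρ]
    exact h n
  rw [Finset.sum_congr rfl (fun c _ => h2 c)] at h1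
  simp only [Finset.sum_const, Finset.card_univ, nsmul_eq_mul] at h1
  rw [← Nat.card_eq_fintype_card, inv_mul_cancel_left₀ (by exact_mod_cast Nat.card_pos.ne')] at h1
  have h3 : finrank ℂ (invariants σ) = finrank ℂ V := by exact_mod_cast h1.symm
  have h4 := Submodule.eq_top_of_finrank_eq h3
  ext v
  have h5 : v ∈ invariants σ := by rw [h4]; trivial
  exact h5 ⟨g, Subgroup.mem_zpowers g⟩

/-- The (left) regular representation on functions. -/
def regRep (G : Type u) [Group G] : Representation ℂ G (G → ℂ) where
  toFun g := LinearMap.funLeft ℂ ℂ (fun x => g⁻¹ * x)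
  map_one' := by ext; simp [LinearMap.funLeft_apply]
  map_mul' a b := by
    apply LinearMap.ext
    intro f
    funext x
    simp [LinearMap.funLeft_apply, mul_assoc]

theorem regRep_apply (g : G) (f : G → ℂ) (x : G) : regRep G g f x = f (g⁻¹ * x) := rfl

theorem regRep_character [Fintype G] [DecidableEq G] (g : G) :
    (regRep G).character g = if g = 1 then (Nat.card G : ℂ) else 0 := by
  rw [character, LinearMap.trace_eq_matrix_trace ℂ (Pi.basisFun ℂ G)]
  simp only [Matrix.trace, Matrix.diag_apply, LinearMap.toMatrix_apply, Pi.basisFun_repr,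
    Pi.basisFun_apply, regRep_apply]
  split_ifs with h
  · subst h
    simp
  · apply Finset.sum_eq_zero
    intro x _
    rw [Pi.single_apply, if_neg]
    intro h'
    apply h
    simpa using h'

end Basic

section Form

variable {G : Type u} [Group G] [Fintype G]

/-- the bilinear form on functions. -/
noncomputable def B (a b : G → ℂ) : ℂ := (Nat.card G : ℂ)⁻¹ * ∑ x, a x * b x⁻¹

theorem B_def (a b : G → ℂ) : B a b = (Nat.card G : ℂ)⁻¹ * ∑ x, a x * b x⁻¹ := rfl

theorem card_ne_zero : (Nat.card G : ℂ) ≠ 0 := by exact_mod_cast Nat.card_pos.ne'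

theorem B_comm (a b : G → ℂ) : B a b = B b a := by
  rw [B_def, B_def]
  congr 1
  refine Fintype.sum_equiv (Equiv.inv G) _ _ ?_
  intro x
  simp [mul_comm]

theorem B_add_left (a b c : G → ℂ) : B (a + b) c = B a c + B b c := by
  simp only [B_def, Pi.add_apply, add_mul, Finset.sum_add_distrib, mul_add]

theorem B_add_right (a b c : G → ℂ) : B a (b + c) = B a b + B a c := by
  rw [B_comm, B_add_left, B_comm b, B_comm c]

theorem B_int {V W : Type u} [AddCommGroup V] [Module ℂ V] [FiniteDimensional ℂ V]
    [AddCommGroup W] [Module ℂ W] [FiniteDimensional ℂ W] (ρ : Representation ℂ G V)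
    (σ : Representation ℂ G W) : ∃ n : ℕ, B ρ.character σ.character = n := by
  have : Invertible (Nat.card G : ℂ) := invertibleOfNonzero card_ne_zero
  exact ⟨_, card_inv_mul_sum_char_mul_char_eq_finrank σ ρ⟩

theorem B_one {V : Type u} [AddCommGroup V] [Module ℂ V] [FiniteDimensional ℂ V]
    (ρ : Representation ℂ G V) : ∃ n : ℕ, B 1 ρ.character = n := by
  have : Invertible (Nat.card G : ℂ) := invertibleOfNonzero card_ne_zero
  refine ⟨finrank ℂ (invariants ρ), ?_⟩
  · rw [B_comm, B_def, ← card_inv_mul_sum_char_eq_finrank ρ]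
    simp

theorem B_irr {V : Type u} [AddCommGroup V] [Module ℂ V] [FiniteDimensional ℂ V]
    (ρ : Representation ℂ G V) (h : ρ.IsIrreducible) : B ρ.character ρ.character = 1 := by
  have : Invertible (Nat.card G : ℂ) := invertibleOfNonzero card_ne_zero
  have h1 := card_inv_mul_sum_char_mul_char_eq_finrank ρ ρ
  rw [IsIrreducible.finrank_intertwiningMap_self] at h1
  rw [B_def, h1]; simp

theorem B_regRep (f : G → ℂ) : B f (regRep G).character = f 1 := by
  classical
  rw [B_def]
  simp only [regRep_character]
  rw [Finset.sum_eq_single 1]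
  · simp only [inv_one, if_true]
    have := card_ne_zero (G := G)
    field_simp
  · intro b _ hb
    simp [hb]
  · simp

open scoped ComplexConjugate

theorem eq_of_B {f χ : G → ℂ} (hf : ∀ x, f x⁻¹ = conj (f x)) (hχ : ∀ x, χ x⁻¹ = conj (χ x))
    (hff : B f f = 1) (hχχ : B χ χ = 1) {m : ℤ} (hm : B f χ = m) (hm0 : m ≠ 0)
    {a b : ℕ} (hfa : f 1 = a) (ha : a ≠ 0) (hχb : χ 1 = b) : f = χ := by
  -- the key identity
  have key : ((∑ x, Complex.normSq (f x - m * χ x) : ℝ) : ℂ) = (Nat.card G : ℂ) * (1 - (m:ℂ) ^ 2) := by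
    have h1 : ∀ x, ((Complex.normSq (f x - m * χ x) : ℝ) : ℂ) =
        f x * f x⁻¹ - m * (f x * χ x⁻¹) - m * (χ x * f x⁻¹) + (m:ℂ)^2 * (χ x * χ x⁻¹) := by
      intro x
      rw [← Complex.mul_conj, map_sub, map_mul, ← hf, ← hχ]
      rw [map_intCast]
      ring
    push_cast
    rw [Finset.sum_congr rfl (fun x _ => h1 x)]
    rw [Finset.sum_add_distrib, Finset.sum_sub_distrib, Finset.sum_sub_distrib,
      ← Finset.mul_sum, ← Finset.mul_sum, ← Finset.mul_sum]
    have e : ∀ a b : G → ℂ, ∑ x, a x * b x⁻¹ = (Nat.card G : ℂ) * B a b := by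
      intro a b
      rw [B_def, mul_inv_cancel_left₀ card_ne_zero]
    rw [e, e, e, e, hff, hχχ, B_comm χ f, hm]
    ring
  have key' : (∑ x, Complex.normSq (f x - m * χ x) : ℝ) = (Nat.card G : ℝ) * (1 - (m:ℝ) ^ 2) := by
    have : (((Nat.card G : ℝ) * (1 - (m:ℝ) ^ 2) : ℝ) : ℂ) = (Nat.card G : ℂ) * (1 - (m:ℂ) ^ 2) := by
      push_cast; ring
    rw [← this] at key
    exact_mod_cast key
  have hnn : 0 ≤ ∑ x, Complex.normSq (f x - m * χ x) :=
    Finset.sum_nonneg fun x _ => Complex.normSq_nonneg _
  have hG : (0:ℝ) < Nat.card G := by exact_mod_cast Nat.card_pos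
  have hm1 : m ^ 2 = 1 := by
    have h1 : (0:ℝ) ≤ 1 - (m:ℝ)^2 := by
      rw [key'] at hnn
      exact nonneg_of_mul_nonneg_right hnn hG
    have h2 : m ^ 2 ≤ 1 := by
      have : ((m ^ 2 : ℤ) : ℝ) ≤ 1 := by push_cast; linarith
      exact_mod_cast this
    have h3 : 0 < m ^ 2 := by positivity
    omega
  have hz : ∑ x, Complex.normSq (f x - m * χ x) = 0 := by
    rw [key']
    have : (m:ℝ)^2 = 1 := by exact_mod_cast hm1
    rw [this]; ring
  have hx : ∀ x, f x = m * χ x := by
    intro x
    have := (Finset.sum_eq_zero_iff_of_nonneg (fun x _ => Complex.normSq_nonneg _)).1 hz x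
      (Finset.mem_univ x)
    exact sub_eq_zero.1 (Complex.normSq_eq_zero.1 this)
  have h1 := hx 1
  rw [hfa, hχb] at h1
  have h1' : (a : ℤ) = m * b := by exact_mod_cast h1
  have hm' : m = 1 := by
    have hmm : (m - 1) * (m + 1) = 0 := by linear_combination hm1
    rcases mul_eq_zero.1 hmm with h | h
    · omega
    · have hm2 : m = -1 := by omega
      subst hm2
      omega
  subst hm'
  funext x
  simpa using hx x

end Form

section Star

open scoped ComplexConjugate

variable {G : Type u} [Group G] [Fintype G] (H : Subgroup G)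

open scoped Classical in
/-- extension by zero of `φ - φ 1`. -/
noncomputable def extz (φ : H → ℂ) (x : G) : ℂ := if h : x ∈ H then φ ⟨x, h⟩ - φ 1 else 0

omit [Fintype G] in
theorem extz_mem (φ : H → ℂ) {x : G} (h : x ∈ H) : extz H φ x = φ ⟨x, h⟩ - φ 1 := dif_pos h

omit [Fintype G] in
theorem extz_not_mem (φ : H → ℂ) {x : G} (h : x ∉ H) : extz H φ x = 0 := dif_neg h

omit [Fintype G] in
theorem extz_one (φ : H → ℂ) : extz H φ 1 = 0 := by
  rw [extz_mem H φ H.one_mem]
  exact sub_self _

/-- The extension of a class function of a Frobenius complement `H`: constant on the kernel. -/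
noncomputable def star (φ : H → ℂ) (x : G) : ℂ :=
  φ 1 + (Nat.card H : ℂ)⁻¹ * ∑ g : G, extz H φ (g⁻¹ * x * g)

theorem star_def (φ : H → ℂ) (x : G) :
    star H φ x = φ 1 + (Nat.card H : ℂ)⁻¹ * ∑ g : G, extz H φ (g⁻¹ * x * g) := rfl

theorem star_conj (φ : H → ℂ) (x k : G) : star H φ (k * x * k⁻¹) = star H φ x := by
  rw [star_def, star_def]
  congr 2
  refine Fintype.sum_equiv (Equiv.mulLeft k⁻¹) _ _ ?_
  intro g
  congr 1
  simp only [Equiv.coe_mulLeft]
  group

theorem star_of_kernel (φ : H → ℂ) {x : G} (hx : x ∈ Cfsg.frobeniusKernel H) :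
    star H φ x = φ 1 := by
  rw [star_def, Finset.sum_eq_zero]
  · simp
  · intro g _
    rcases FrobeniusKernel.mem_kernel_iff.1 hx with rfl | h
    · simp [extz_one]
    · exact extz_not_mem H φ (h g)

theorem star_one (φ : H → ℂ) : star H φ 1 = φ 1 :=
  star_of_kernel H φ FrobeniusKernel.one_mem_kernel

theorem star_mem (hH : Cfsg.IsFrobeniusComplement H) (φ : H → ℂ)
    (hφ : ∀ a b : H, φ (b * a * b⁻¹) = φ a) (x : H) : star H φ x = φ x := by
  classical
  by_cases hx1 : x = 1
  · subst hx1
    exact star_one H φ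
  have hx1' : (x : G) ≠ 1 := fun h => hx1 (Subtype.ext h)
  have h1 : ∀ g : G, extz H φ (g⁻¹ * x * g) = if g ∈ H then φ x - φ 1 else 0 := by
    intro g
    split_ifs with hg
    · have hm : g⁻¹ * x * g ∈ H := H.mul_mem (H.mul_mem (H.inv_mem hg) x.2) hg
      rw [extz_mem H φ hm]
      congr 1
      have := hφ x (⟨g, hg⟩⁻¹)
      rw [← this]
      congr 1
      apply Subtype.ext
      simp
    · apply extz_not_mem
      intro h
      exact hg (FrobeniusKernel.mem_of_conj_mem hH x.2 hx1' h)
  rw [star_def, Finset.sum_congr rfl (fun g _ => h1 g), ← Finset.sum_filter, Finset.sum_const,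
    nsmul_eq_mul]
  have h2 : (Finset.univ.filter (fun g : G => g ∈ H)).card = Nat.card H := by
    rw [Nat.card_eq_fintype_card, Fintype.card_subtype]
  have h3 : (Nat.card H : ℂ) ≠ 0 := by exact_mod_cast Nat.card_pos.ne'
  rw [h2, inv_mul_cancel_left₀ h3]
  ring

theorem star_inv (φ : H → ℂ) (hφ : ∀ x, φ x⁻¹ = conj (φ x)) (x : G) :
    star H φ x⁻¹ = conj (star H φ x) := by
  have h1 : conj (φ 1) = φ 1 := by rw [← hφ, inv_one]
  have h2 : ∀ y : G, extz H φ y⁻¹ = conj (extz H φ y) := by
    intro y
    by_cases hy : y ∈ H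
    · rw [extz_mem H φ hy, extz_mem H φ (H.inv_mem hy), map_sub, h1, ← hφ]
      rfl
    · rw [extz_not_mem H φ hy, extz_not_mem H φ (fun h => hy (by simpa using H.inv_mem h)), map_zero]
  rw [star_def, star_def, map_add, map_mul, map_sum, h1, map_inv₀, Complex.conj_natCast]
  congr 2
  apply Finset.sum_congr rfl
  intro g _
  rw [← h2]
  congr 1
  group

/-- Reciprocity for the `star` extension. -/
theorem B_star [Fintype H] (φ : H → ℂ) (χ : G → ℂ) (hχ : ∀ a b : G, χ (b * a * b⁻¹) = χ a) :
    B (star H φ) χ = φ 1 * B 1 χ + B φ (fun x : H => χ x) - φ 1 * B 1 (fun x : H => χ x) := by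
  classical
  have hG := card_ne_zero (G := G)
  have hHc := card_ne_zero (G := H)
  have h1 : ∑ x : G, (∑ g : G, extz H φ (g⁻¹ * x * g)) * χ x⁻¹ =
      (Nat.card G : ℂ) * ∑ y : H, (φ y - φ 1) * χ (y : G)⁻¹ := by
    simp only [Finset.sum_mul]
    rw [Finset.sum_comm]
    have h2 : ∀ g : G, ∑ x : G, extz H φ (g⁻¹ * x * g) * χ x⁻¹ = ∑ y : G, extz H φ y * χ y⁻¹ := by
      intro g
      refine Fintype.sum_equiv (MulAut.conj g⁻¹).toEquiv _ _ ?_
      intro x
      simp only [MulEquiv.toEquiv_eq_coe, MulEquiv.coe_toEquiv, MulAut.conj_apply, inv_inv]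
      congr 1
      rw [← hχ x⁻¹ g⁻¹]
      congr 1
      group
    rw [Finset.sum_congr rfl (fun g _ => h2 g), Finset.sum_const, Finset.card_univ, nsmul_eq_mul,
      ← Nat.card_eq_fintype_card]
    congr 1
    have h3 : ∀ y : G, extz H φ y * χ y⁻¹ = if h : y ∈ H then (φ ⟨y, h⟩ - φ 1) * χ y⁻¹ else 0 := by
      intro y
      split_ifs with h
      · rw [extz_mem H φ h]
      · rw [extz_not_mem H φ h, zero_mul]
    rw [Finset.sum_congr rfl (fun y _ => h3 y)]
    symm
    refine Finset.sum_bij_ne_zero (fun y _ _ => (y : G)) ?_ ?_ ?_ ?_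
    · intro _ _ _; exact Finset.mem_univ _
    · intro a _ _ b _ _ h; exact Subtype.ext h
    · intro b _ hb
      by_cases h : b ∈ H
      · rw [dif_pos h] at hb
        exact ⟨⟨b, h⟩, Finset.mem_univ _, hb, rfl⟩
      · rw [dif_neg h] at hb
        exact absurd rfl hb
    · intro a _ _
      rw [dif_pos a.2]
  have h4 : ∑ x : G, star H φ x * χ x⁻¹ =
      φ 1 * ∑ x : G, χ x⁻¹ + (Nat.card H : ℂ)⁻¹ *
        ∑ x : G, (∑ g : G, extz H φ (g⁻¹ * x * g)) * χ x⁻¹ := by
    rw [Finset.mul_sum, Finset.mul_sum, ← Finset.sum_add_distrib]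
    apply Finset.sum_congr rfl
    intro x _
    rw [star_def]
    ring
  rw [B_def, h4, h1]
  simp only [B_def, sub_mul, Finset.sum_sub_distrib, Pi.one_apply, one_mul, ← Finset.mul_sum,
    Subgroup.coe_inv]
  field_simp
  ring

end Star

section Main

open scoped ComplexConjugate

variable {G : Type u} [Group G]

theorem character_eq_zero_of_subsingleton {V : Type*} [AddCommGroup V] [Module ℂ V]
    [Subsingleton V] (ρ : Representation ℂ G V) : ρ.character = 0 := by
  ext g
  have : ρ g = 0 := by
    ext v
    exact Subsingleton.elim _ _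
  rw [character, this]
  simp

theorem B_one_one [Fintype G] : B (1 : G → ℂ) 1 = 1 := by
  rw [B_def]
  have := card_ne_zero (G := G)
  simp only [Pi.one_apply, mul_one, Finset.sum_const, Finset.card_univ, nsmul_eq_mul,
    ← Nat.card_eq_fintype_card]
  exact inv_mul_cancel₀ this

/-- Every irreducible character of a Frobenius complement extends to a character of the whole
group which is constant on the Frobenius kernel. -/
theorem exists_rep_star [Fintype G] {H : Subgroup G} (hH : Cfsg.IsFrobeniusComplement H)
    {V : Type u} [AddCommGroup V] [Module ℂ V] [FiniteDimensional ℂ V]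
    (σ : Representation ℂ H V) (hσ : σ.IsIrreducible) :
    ∃ (W : Type u) (_ : AddCommGroup W) (_ : Module ℂ W) (_ : FiniteDimensional ℂ W)
      (ρ : Representation ℂ G W), ρ.IsIrreducible ∧ ρ.character = star H σ.character := by
  classical
  have : Fintype H := Fintype.ofFinite _
  set φ := σ.character with hφdef
  have hφc : ∀ a b : H, φ (b * a * b⁻¹) = φ a := fun a b => char_conj σ a b
  have hφ1 : φ 1 = (finrank ℂ V : ℕ) := char_one σ
  have hV0 : finrank ℂ V ≠ 0 := by
    intro h0
    have : Subsingleton V := Module.finrank_zero_iff.1 h0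
    have h1 := B_irr σ hσ
    rw [character_eq_zero_of_subsingleton σ, B_def] at h1
    simp at h1
  have hfmem : (fun x : H => star H φ (x : G)) = φ := by
    funext x
    exact star_mem H hH φ hφc x
  have hfc : ∀ a b : G, star H φ (b * a * b⁻¹) = star H φ a := fun a b => star_conj H φ a b
  -- B f 1
  have hf1 : B (star H φ) 1 = B φ 1 := by
    rw [B_star H φ 1 (fun _ _ => rfl), B_one_one]
    have : (fun x : H => (1 : G → ℂ) x) = 1 := rfl
    rw [this, B_one_one]
    ring
  have hff : B (star H φ) (star H φ) = 1 := by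
    rw [B_star H φ _ hfc, hfmem, B_comm 1 (star H φ), hf1, B_comm 1 φ, B_irr σ hσ]
    ring
  -- existence of a constituent
  obtain ⟨W, _, _, _, ρ, hρ, hBρ⟩ : ∃ (W : Type u) (_ : AddCommGroup W) (_ : Module ℂ W)
      (_ : FiniteDimensional ℂ W) (ρ : Representation ℂ G W), ρ.IsIrreducible ∧
      B (star H φ) ρ.character ≠ 0 := by
    by_contra hcon
    push Not at hcon
    have h1 := character_induction (fun χ => B (star H φ) χ = 0)
      (by rw [B_def]; simp) (fun a b ha hb => by rw [B_add_right, ha, hb, add_zero])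
      (fun W _ _ _ ρ hρ => hcon W _ _ ‹_› ρ hρ) _ (regRep G)
    rw [B_regRep, star_one, hφ1] at h1
    exact hV0 (by exact_mod_cast h1)
  refine ⟨W, _, _, ‹_›, ρ, hρ, ?_⟩
  -- integrality
  obtain ⟨n1, hn1⟩ := B_one ρ
  obtain ⟨n2, hn2⟩ := B_int σ (MonoidHom.comp ρ H.subtype)
  obtain ⟨n3, hn3⟩ := B_one (MonoidHom.comp ρ H.subtype : Representation ℂ H W)
  have hres : (fun x : H => ρ.character (x : G)) =
    Representation.character (MonoidHom.comp ρ H.subtype : Representation ℂ H W) := rfl
  have hm : B (star H φ) ρ.character = ((finrank ℂ V * n1 + n2 - finrank ℂ V * n3 : ℤ) : ℂ) := by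
    rw [B_star H φ _ (fun a b => char_conj ρ a b), hres, hn1, hn2, hn3, hφ1]
    push_cast
    ring
  symm
  refine eq_of_B (star_inv H φ (character_inv V σ)) (character_inv W ρ) hff (B_irr ρ hρ) hm ?_
    (a := finrank ℂ V) (b := finrank ℂ W) ?_ hV0 (char_one ρ)
  · intro h0
    rw [h0] at hm
    exact hBρ (by rw [hm]; simp)
  · rw [star_one, hφ1]

theorem exists_irr_separating [Finite G] {h : G} (hh : h ≠ 1) :
    ∃ (V : Type u) (_ : AddCommGroup V) (_ : Module ℂ V) (_ : FiniteDimensional ℂ V)
      (σ : Representation ℂ G V), σ.IsIrreducible ∧ σ.character h ≠ σ.character 1 := by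
  classical
  have : Fintype G := Fintype.ofFinite _
  by_contra hcon
  push Not at hcon
  have h1 := character_induction (fun χ => χ h = χ 1) rfl
    (fun a b ha hb => by simp [ha, hb]) (fun W _ _ _ ρ hρ => hcon W _ _ ‹_› ρ hρ) _ (regRep G)
  rw [regRep_character, regRep_character, if_neg hh, if_pos rfl] at h1
  exact card_ne_zero h1.symm

/-- For each nontrivial element of `H` there is a normal subgroup containing the Frobenius kernel
and missing that element. -/
theorem exists_normal [Finite G] {H : Subgroup G} (hH : Cfsg.IsFrobeniusComplement H)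
    {h : G} (hh : h ∈ H) (hh1 : h ≠ 1) :
    ∃ N : Subgroup G, N.Normal ∧ Cfsg.frobeniusKernel H ⊆ N ∧ h ∉ N := by
  have : Fintype G := Fintype.ofFinite _
  obtain ⟨V, _, _, _, σ, hσ, hne⟩ := exists_irr_separating (G := H) (h := ⟨h, hh⟩)
    (fun h' => hh1 (congrArg Subtype.val h'))
  obtain ⟨W, _, _, _, ρ, -, hρ⟩ := exists_rep_star hH σ hσ
  refine ⟨MonoidHom.ker ρ, inferInstance, ?_, ?_⟩
  · intro x hx
    rw [SetLike.mem_coe, MonoidHom.mem_ker]
    apply apply_eq_one_of_character
    intro n
    rw [hρ, star_of_kernel H _ (FrobeniusKernel.zpow_mem_kernel hH hx n), star_one]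
  · intro hx
    rw [MonoidHom.mem_ker] at hx
    apply hne
    have h1 : ρ.character h = ρ.character 1 := by
      rw [character, hx, character, map_one ρ]
    rw [hρ, star_one] at h1
    rw [← h1]
    exact (star_mem H hH _ (fun a b => char_conj σ a b) ⟨h, hh⟩).symm

/-- **Frobenius' theorem**. -/
theorem frobenius [Finite G] {H : Subgroup G} (hH : Cfsg.IsFrobeniusComplement H) :
    ∃ N : Subgroup G, (N : Set G) = Cfsg.frobeniusKernel H ∧ N.Normal ∧
      Subgroup.IsComplement' N H := by
  have hdisj : ∀ x ∈ Subgroup.normalClosure (Cfsg.frobeniusKernel H), x ∈ H → x = 1 := by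
    intro x hx hxH
    by_contra hx1
    obtain ⟨N, hN, hKN, hxN⟩ := exists_normal hH hxH hx1
    exact hxN (Subgroup.normalClosure_le_normal hKN hx)
  have heq : (Subgroup.normalClosure (Cfsg.frobeniusKernel H) : Set G) =
      Cfsg.frobeniusKernel H := by
    apply Set.Subset.antisymm _ Subgroup.subset_normalClosure
    intro x hx
    by_contra hxK
    obtain ⟨hx1, g, hg⟩ := FrobeniusKernel.not_mem_kernel_iff.1 hxK
    apply hx1
    have h1 : g⁻¹ * x * g ∈ Subgroup.normalClosure (Cfsg.frobeniusKernel H) := by
      have := Subgroup.normalClosure_normal (s := Cfsg.frobeniusKernel H).conj_mem x hx g⁻¹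
      simpa using this
    have h2 := hdisj _ h1 hg
    have : x = g * (g⁻¹ * x * g) * g⁻¹ := by group
    rw [this, h2]
    simp
  refine ⟨Subgroup.normalClosure (Cfsg.frobeniusKernel H), heq, inferInstance, ?_⟩
  apply Subgroup.isComplement'_of_card_mul_and_disjoint
  · have h1 : Nat.card (Subgroup.normalClosure (Cfsg.frobeniusKernel H)) = H.index := by
      rw [← FrobeniusKernel.card_kernel hH]
      exact Nat.card_congr (Equiv.setCongr heq)
    rw [h1, H.index_mul_card]
  · rw [Subgroup.disjoint_def]
    intro x hx hxH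
    exact hdisj x hx hxH

end Main

end Cfsg.Agent.Solvable.FrobeniusTheorem
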